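import Cfsg.Agent.FiPrime.Surj

/-!
The simple Fischer group from an involution centraliser, given the recognition of the unitary group in six
dimensions.
-/

set_option autoImplicit false
set_option linter.unusedSectionVars false

open Cfsg

namespace Cfsg.Lib.FiPrime

universe u

theorem iso_fi24' {G : Type u} [Group G] [Finite G] (hCore : Cfsg.Lib.USixType.CoreGoal.{u}) (z : G)
    (hz : orderOf z = 2) (Q N M : Subgroup (Subgroup.centralizer ({z} : Set G))) [Q.Normal] [N.Normal] [M.Normal]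
    (hF : Cfsg.generalizedFittingSubgroup (Subgroup.centralizer ({z} : Set G)) = Q) (hQ : Cfsg.IsExtraspecial 2 Q)
    (hcard : Nat.card Q = 2 ^ 13) (hQN : Q ≤ N) (hNM : N ≤ M) (hN : Nat.card N = 3 * Nat.card Q) (K : Type) [Field K]
    [Fintype K] (hK : Fintype.card K = 9) (e : M ⧸ N.subgroupOf M ≃* Cfsg.PSU 4 K 3) (hM : M.index = 2)
    (hnwc : ∃ g : G, (∃ hq : g * z * g⁻¹ ∈ Subgroup.centralizer ({z} : Set G),
      (⟨g * z * g⁻¹, hq⟩ : Subgroup.centralizer ({z} : Set G)) ∈ Q) ∧ g * z * g⁻¹ ≠ z) :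
    Cfsg.Spor.IsoFi24' G := by
  have hs : Cfsg.IsExtraspecialCentralizerSetting z Q 6 := ⟨hz, hF, hQ, hcard, hnwc⟩
  obtain ⟨φ⟩ := exists_iso hCore (show Cfsg.IsOfLargeFischerTypeAt z Q from
    ⟨hs, N, M, inferInstance, inferInstance, hQN, hNM, hN, ⟨K, inferInstance, inferInstance, hK, ⟨e⟩⟩, hM⟩)
  exact ⟨φ.trans (MulEquiv.subgroupCongr Cfsg.Lib.FiFour.commutator_eq.symm)⟩

end Cfsg.Lib.FiPrime
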