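import Cfsg.Agent.FiPrime.Lifts
import Cfsg.Agent.LargeFischer.OuterStructure
import Cfsg.Agent.LargeFischer.OuterKey
import Cfsg.Agent.M23Rec.Iso
import Cfsg.Agent.S1713

/-!
The double cover of the smallest Fischer group in the centraliser of a short involution, with a second short
involution lifting a transposition.
-/

set_option autoImplicit false
set_option linter.unusedSectionVars false
set_option linter.style.haveILetI false
set_option maxRecDepth 100000
set_option maxHeartbeats 1000000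

namespace Cfsg.Lib.FiPrime

open Subgroup Cfsg.Lib.LargeFischer
open Cfsg.Lib.PrimeGraph (KQuad)
open Cfsg.Lib.M23Rec (Fj zz D0 P0 H23 h23 finite_fj)
open scoped commutatorElement

attribute [local irreducible] FiTwenty.sig0 FiTwenty.sig1 FiTwenty.sig2 FiTwenty.sig3 FiTwenty.sig4 FiTwenty.sig5
  FiTwenty.sig6 FiTwenty.sig7 FiTwenty.sig8 FiTwenty.sig9 FiTwenty.sig10 FiTwenty.subPts FiTwenty.subIdx
  FiTwenty.subTree1Mask FiTwenty.subTree2Mask

universe u

variable {G : Type u} [Group G]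

/-- Transport by an inner automorphism. -/
theorem Short.conj {t : G} {ι : H23 →* G} (h : Short t ι) (k : G) :
    Short (k * t * k⁻¹) ((MulAut.conj k).toMonoidHom.comp ι) := by
  have hr : ∀ g, g ∈ ((MulAut.conj k).toMonoidHom.comp ι).range ↔ k⁻¹ * g * k ∈ ι.range := fun g => by
    constructor
    · rintro ⟨x, rfl⟩
      exact ⟨x, show ι x = k⁻¹ * (k * ι x * k⁻¹) * k by group⟩
    · rintro ⟨x, hx⟩
      exact ⟨x, show k * ι x * k⁻¹ = g by rw [hx]; group⟩
  have hc : ∀ g, Commute g (k * t * k⁻¹) → Commute (k⁻¹ * g * k) t := fun g hg => by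
    have := hg.map (MulAut.conj k⁻¹)
    simpa [mul_assoc] using this
  refine ⟨(MulAut.conj k).injective.comp h.inj, congrArg (fun y => k * y * k⁻¹) h.base, fun g g' hg hg' n n' => ?_,
    ?_, fun g hg hall => ?_⟩
  · rw [hr] at n n' ⊢
    have := h.two _ _ (hc g hg) (hc g' hg') n n'
    rwa [show k⁻¹ * g * k * (k⁻¹ * g' * k) = k⁻¹ * (g * g') * k by group] at this
  · obtain ⟨q, hq, hqn⟩ := h.outer
    refine ⟨k * q * k⁻¹, hq.map (MulAut.conj k), fun e => hqn ?_⟩
    rw [hr] at e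
    convert e using 1
    group
  · rw [hr]
    refine h.cen _ (hc g hg) fun x => ?_
    have := (hall x).map (MulAut.conj k⁻¹)
    simpa [mul_assoc] using this

/-- Precomposition with an automorphism. -/
theorem Short.twist {t : G} {ι : H23 →* G} (h : Short t ι) (α : MulAut H23) (hα : α FiTwenty.zH = FiTwenty.zH) :
    Short t (ι.comp α.toMonoidHom) := by
  have hr : (ι.comp α.toMonoidHom).range = ι.range := by
    rw [MonoidHom.range_comp, MonoidHom.range_eq_top.2 α.surjective, MonoidHom.range_eq_map]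
  refine ⟨h.inj.comp α.injective, (congrArg ι hα).trans h.base, ?_, ?_, ?_⟩
  · intro g g' hg hg'; rw [hr]; exact h.two g g' hg hg'
  · rw [hr]; exact h.outer
  · intro g hg hall
    rw [hr]
    exact h.cen g hg fun x => by
      have := hall (α.symm x)
      simpa using this

variable [Finite G] {z : G} {Q : Subgroup (centralizer ({z} : Set G))} [Q.Normal]

theorem center_four {c : Ctx z Q} (L : c.Four) (e : L.Bar ≃* Cfsg.PSU 6 KQuad 2) :
    center ↥L.C ≤ L.E.subgroupOf L.C := by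
  haveI hs : IsSimpleGroup (Cfsg.PSU 6 KQuad 2) :=
    Cfsg.Agent.S0283.result (by rw [KQuad.card_eq]; norm_num) 6 (by norm_num) (by simp)
  haveI : IsSimpleGroup L.Bar := e.isSimpleGroup
  obtain ⟨q, r, hq, hr, hqr⟩ := L.JG_noncomm
  set x : ↥L.C := ⟨_, hq⟩
  set y : ↥L.C := ⟨_, hr⟩
  have hxy : L.π ⁅x, y⁆ ≠ 1 := fun h => L.z_notMem (by
    have h2 : ((⁅x, y⁆ : ↥L.C) : G) ∈ L.E := L.pi_eq_one.mp h
    have e' : ((⁅x, y⁆ : ↥L.C) : G) = z := hqr
    exact (congrArg (· ∈ L.E) e').mp h2)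
  have hcbot : center L.Bar = ⊥ := by
    rcases IsSimpleGroup.eq_bot_or_eq_top_of_normal (center L.Bar) inferInstance with h | h
    · exact h
    · refine absurd ?_ hxy
      rw [map_commutatorElement]
      exact commutatorElement_eq_one_iff_mul_comm.mpr (mem_center_iff.mp (h ▸ mem_top (L.π y)) (L.π x))
  intro w hw
  refine L.pi_eq_one.mp (mem_bot.mp (hcbot ▸ mem_center_iff.mpr fun b => ?_))
  obtain ⟨v, rfl⟩ := QuotientGroup.mk'_surjective _ b
  rw [← map_mul, ← map_mul, mem_center_iff.mp hw v]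

theorem exists_short (hCore : Cfsg.Lib.USixType.CoreGoal.{u}) (hF : Cfsg.IsOfLargeFischerTypeAt z Q) :
    ∃ (c : Ctx z Q) (L : c.Four) (P : c.Plane) (k : ↥(centralizer ({z} : Set G))) (ι : H23 →* G) (b : H23),
      Short L.ga ι ∧ ι b = L.gb ∧ ((b : Fj) ∈ P0 ∨ ((FiTwenty.zH * b : H23) : Fj) ∈ P0) ∧
      (k : G) * L.ga * (k : G)⁻¹ ∈ P.sextet.A ∧ (k : G) * L.gb * (k : G)⁻¹ ∈ P.sextet.A := by
  haveI : Fact (Nat.Prime 2) := ⟨Nat.prime_two⟩
  haveI := finite_fj
  obtain ⟨c, L, P, k, m, ⟨hta, htb⟩, hm, hne, hcom⟩ := Ctx.exists_four_placed hF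
  obtain ⟨e⟩ := L.bar_unitary hCore hm hne hcom
  obtain ⟨τ, q, -, hqb, hqτ⟩ := L.exists_outer
  obtain ⟨g0, hg0, hg02⟩ := L.exists_flip P k hta htb
  obtain ⟨K, hK⟩ := L.outer_core e τ q hqb hqτ hg0 hg02
  obtain ⟨hna, hnb, hab⟩ := L.ab_ne
  have haY : L.ga ∈ L.Y := mem_centralizer_singleton_iff.mpr rfl
  have haK : (⟨L.ga, haY⟩ : ↥L.Y) ∈ K := hK.mem _ (L.E_le_C L.a_mem)
  set aK : ↥K := ⟨⟨L.ga, haY⟩, haK⟩ with haK'
  have haKc : ∀ x : ↥K, Commute x aK := fun x => Subtype.ext (Subtype.ext (L.mem_Y.mp (x : ↥L.Y).2))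
  haveI hZn : (zpowers aK).Normal := ⟨fun n hn x => by
    obtain ⟨i, rfl⟩ := mem_zpowers_iff.mp hn
    rw [((haKc x).zpow_right i).eq, mul_inv_cancel_right]; exact hn⟩
  obtain ⟨d', hd', hq', ⟨F, _, _, hF', hn'', ⟨e'⟩⟩, hw'⟩ := hK.invol aK rfl
  haveI := hn''
  obtain ⟨f⟩ := Cfsg.Agent.S1713.result d' hd' hq' F hF' e' hw'
  let σ : ↥K →* Cfsg.Spor.Fi22 := f.toMonoidHom.comp (QuotientGroup.mk' (zpowers aK))
  have hσk : σ.ker = zpowers aK := by
    ext x
    simp only [σ, MonoidHom.mem_ker, MonoidHom.comp_apply, MulEquiv.coe_toMonoidHom, map_eq_one_iff _ f.injective,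
      QuotientGroup.mk'_apply, QuotientGroup.eq_one_iff]
  have ha2 : orderOf aK = 2 := orderOf_eq_prime (by
    rw [pow_two]; exact Subtype.ext (Subtype.ext L.sq_a)) fun h => hna (congrArg (fun x : ↥K => ((x : ↥L.Y) : G)) h)
  obtain ⟨eH, heH⟩ := M23Rec.double_iso σ (f.surjective.comp (QuotientGroup.mk'_surjective _))
    (by rw [hσk]; exact zpowers_le.mpr (mem_center_iff.mpr fun x => haKc x)) hK.qs.1.1
    (by rw [hσk, Nat.card_zpowers, ha2])
  have hea : eH aK = FiTwenty.zH := by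
    have h1 : eH aK ∈ center H23 := FiTwenty.center_eq.ge (MonoidHom.mem_ker.2 (by
      rw [heH, ← MonoidHom.mem_ker, hσk]; exact mem_zpowers aK))
    rcases M23Rec.center_cases fun w => (mem_center_iff.1 h1 w).symm with k | k
    · exfalso
      have := eH.injective (k.trans (map_one eH).symm)
      rw [this, orderOf_one] at ha2
      norm_num at ha2
    · exact k
  let ι : H23 →* G := (L.Y.subtype.comp K.subtype).comp eH.symm.toMonoidHom
  have hrange : ∀ g, g ∈ ι.range ↔ ∃ h : g ∈ L.Y, (⟨g, h⟩ : ↥L.Y) ∈ K := fun g => by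
    constructor
    · rintro ⟨x, rfl⟩
      exact ⟨_, (eH.symm x).2⟩
    · rintro ⟨hg, hgK⟩
      exact ⟨eH ⟨_, hgK⟩, by simp [ι]⟩
  have hY : ∀ {g}, Commute g L.ga → g ∈ L.Y := fun h => L.mem_Y.mpr h.eq
  have hS : Short L.ga ι := by
    refine ⟨(L.Y.subtype_injective.comp K.subtype_injective).comp eH.symm.injective, ?_, fun g g' hg hg' n n' => ?_,
      ⟨(q : G), L.mem_Y.mp q.2, fun h => ?_⟩, fun g hg hall => ?_⟩
    · show ((eH.symm FiTwenty.zH : ↥K) : ↥L.Y).1 = L.ga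
      rw [← hea, MulEquiv.symm_apply_apply]
    · rw [hrange] at n n' ⊢
      refine ⟨mul_mem (hY hg) (hY hg'), ?_⟩
      exact (Subgroup.mul_mem_iff_of_index_two hK.index (a := ⟨g, hY hg⟩) (b := ⟨g', hY hg'⟩)).2
        (iff_of_false (fun h => n ⟨_, h⟩) fun h => n' ⟨_, h⟩)
    · obtain ⟨hm', hk'⟩ := (hrange _).1 h
      exact hK.q_not hk'
    · rcases hK.cent ⟨g, hY hg⟩ (fun y hy => Subtype.ext (by
        have := (hall (eH ⟨y, hy⟩)).eq
        simpa [ι] using this)) with h | h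
      · exact ⟨1, by rw [map_one]; exact h.symm⟩
      · exact (hrange g).2 ⟨hY hg, by
          rw [show (⟨g, hY hg⟩ : ↥L.Y) = ⟨L.ga, haY⟩ from Subtype.ext h]
          exact haK⟩
  have hCr : ∀ g, Commute g L.ga → Commute g L.gb → g ∈ ι.range := fun g h1 h2 =>
    (hrange g).2 ⟨hY h1, hK.mem _ (L.mem_C.mpr ⟨h1, h2⟩)⟩
  obtain ⟨b, hb⟩ := hCr L.gb L.comm_ab.symm (Commute.refl _)
  have hinj := hS.inj
  -- the centraliser of the lift
  let φ : ↥(centralizer ({b} : Set H23)) →* ↥L.C :=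
    (ι.comp (centralizer ({b} : Set H23)).subtype).codRestrict L.C fun x => L.mem_C.mpr
      ⟨hS.comm_base x, by rw [← hb]; exact (show Commute (x : H23) b from mem_centralizer_singleton_iff.1 x.2).map ι⟩
  have hφ : Function.Bijective φ := by
    refine ⟨fun x y h => Subtype.ext (hinj (show ι (x : H23) = ι (y : H23) from (congrArg (fun w : ↥L.C => (w : G)) h :))), fun w => ?_⟩
    obtain ⟨x, hx⟩ := hCr w (L.mem_C.mp w.2).1 (L.mem_C.mp w.2).2
    refine ⟨⟨x, mem_centralizer_singleton_iff.2 (hinj ?_)⟩, Subtype.ext hx⟩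
    rw [map_mul, map_mul, hx, hb]
    exact (L.mem_C.mp w.2).2.eq
  refine ⟨c, L, P, k, ι, b, hS, hb, lift_cases ?_ ?_ ?_
    ((Cfsg.Lib.Components.isQuasisimple_congr (MulEquiv.ofBijective φ hφ)).mpr (L.quasisimple e)) (fun x hx => ?_),
    hta, htb⟩
  · exact hinj (by rw [map_mul, hb, map_one]; exact L.sq_b)
  · exact fun h => hnb (by rw [← hb, h, map_one])
  · exact fun h => hab (by rw [← hb, h, hS.base])
  · have hx' : φ x ∈ center ↥L.C := mem_center_iff.2 fun w => by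
      obtain ⟨y, rfl⟩ := hφ.2 w
      rw [← map_mul, ← map_mul, mem_center_iff.1 hx y]
    have hE := L.mem_E.mp (mem_subgroupOf.mp (center_four L e hx'))
    change ι x = 1 ∨ ι x = _ ∨ ι x = _ ∨ ι x = _ at hE
    rw [← hS.base, ← hb, ← map_mul, ← map_one ι] at hE
    rcases hE with h | h | h | h <;> [left; (right; left); (right; right; left); (right; right; right)] <;> exact hinj h

end Cfsg.Lib.FiPrime
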