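import Cfsg.Agent.FiPrime.Core
import Cfsg.Agent.LargeFischer.OuterPoints

/-!
The duads of the twenty-four points fix the classes of lifts: exchanges and coherence.
-/

set_option autoImplicit false
set_option linter.unusedSectionVars false
set_option linter.style.haveILetI false
set_option maxRecDepth 100000
set_option maxHeartbeats 1000000

namespace Cfsg.Lib.FiPrime

open Subgroup Cfsg.Lib.LargeFischer Cfsg.Lib.ThreeTr
open Cfsg.Lib.M23Rec (Fj zz D0 P0 H23 h23 finite_fj mem_H P0_conj)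

attribute [local instance] Sextet.Model.fintype Sextet.Model.deceq
attribute [local irreducible] FiTwenty.sig0 FiTwenty.sig1 FiTwenty.sig2 FiTwenty.sig3 FiTwenty.sig4 FiTwenty.sig5
  FiTwenty.sig6 FiTwenty.sig7 FiTwenty.sig8 FiTwenty.sig9 FiTwenty.sig10 FiTwenty.subPts FiTwenty.subIdx
  FiTwenty.subTree1Mask FiTwenty.subTree2Mask

universe u

variable {G : Type u} [Group G] [Finite G] {z : G}

theorem frames_of_duads {D : Sextet G z}
    (hM : 138240 * 2048 ≤ Nat.card ↥(normalizer (D.A : Set G) ⊓ centralizer ({z} : Set G)))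
    {t b : G} {ι : H23 →* G} (h : Short t ι) (ht : t ∈ D.T) (hb : b ∈ D.T) (htb : t * b ∈ D.T) (hne : t ≠ b)
    (hbN : b ∈ NS ι) : Frames t ι := by
  haveI := finite_fj
  obtain ⟨M⟩ := D.exists_model
  obtain ⟨a, e, f, hae, haf, hef, htv, hbv⟩ := M.share ht hb hne htb
  -- an element fixing the two points induces an inner automorphism when it is a square
  have hfixt : ∀ g : ↥(normalizer (D.A : Set G)), M.σ g a = a → M.σ g e = e → Commute (g : G) t := fun g ga ge => by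
    refine mul_inv_eq_iff_eq_mul.1 ?_
    rw [htv, M.equiv g a e hae, ga, ge]
  have hsq : ∀ g : G, Commute g t → g * g ∈ ι.range := fun g hg => by
    by_cases hr : g ∈ ι.range
    · exact mul_mem hr hr
    · exact h.two g g hg hg hr hr
  have hpts : ∀ x, x ≠ a → x ≠ e → M.f a * M.f x ∈ NS ι := fun x hxa hxe => by
    obtain ⟨g, ga, ge, gx⟩ := M.exists_square hM hae haf hxa.symm hef hxe.symm
    have hin := hsq g (hfixt g ga ge)
    have := h.keepN hin hbN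
    rw [hbv, show ((g : G) * g) * (M.f a * M.f f) * ((g : G) * g)⁻¹ =
      ((g * g : ↥(normalizer (D.A : Set G))) : G) * (M.f a * M.f f) * ((g * g : ↥(normalizer (D.A : Set G))) : G)⁻¹
      from rfl, M.equiv (g * g) a f haf, map_mul, Equiv.Perm.mul_apply, Equiv.Perm.mul_apply, ga, ga, gx] at this
    exact this
  -- a fourth point
  obtain ⟨p, hp⟩ : ∃ p, p ∉ ({a, e, f} : Finset M.Pt) := by
    refine (Finset.exists_mem_notMem_of_card_lt_card (s := ({a, e, f} : Finset M.Pt)) (t := Finset.univ) ?_).imp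
      fun _ h => h.2
    rw [Finset.card_univ, M.card]
    exact lt_of_le_of_lt Finset.card_le_three (by norm_num)
  simp only [Finset.mem_insert, Finset.mem_singleton, not_or] at hp
  obtain ⟨hpa, hpe, hpf⟩ := hp
  have key : ∀ x y : M.Pt, a ≠ x → a ≠ y → x ≠ y → x ≠ p → y ≠ p → Function.Injective ![a, x, y, p] := by
    intro x y h1 h2 h3 h4 h5 i j h
    fin_cases i <;> fin_cases j <;> simp_all
  obtain ⟨w, hw⟩ := M.four_transitive hM ⟨![a, e, f, p], key e f hae haf hef (Ne.symm hpe) (Ne.symm hpf)⟩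
    ⟨![a, f, e, p], key f e haf hae hef.symm (Ne.symm hpf) (Ne.symm hpe)⟩
  have wa : M.σ w a = a := hw 0
  have we : M.σ w e = f := hw 1
  have wf : M.σ w f = e := hw 2
  have wp : M.σ w p = p := hw 3
  have e1 : (w : G) * t * (w : G)⁻¹ = b := by rw [htv, M.equiv w a e hae, wa, we, hbv]
  have e2 : (w : G) * b * (w : G)⁻¹ = t := by rw [hbv, M.equiv w a f haf, wa, wf, htv]
  set v := M.f a * M.f p with hv
  have e3 : (w : G)⁻¹ * v * (w : G) = v := by
    have : (w : G) * v * (w : G)⁻¹ = v := by rw [hv, M.equiv w a p (Ne.symm hpa), wa, wp]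
    conv_lhs => rw [← this]
    group
  have hvN : v ∈ NS ι := hpts p hpa hpe
  obtain ⟨x0, hx0, hxb⟩ := hbN
  obtain ⟨y0, hy0, hyv⟩ := hvN
  have hxy : x0 ≠ y0 := fun k => hpf (by
    by_contra hne'
    rw [k, hyv, hbv] at hxb
    have h1 := M.pair f p (Ne.symm hne')
    rw [← mul_left_cancel hxb, M.f_sq] at h1
    exact h1.2.1 rfl)
  have hcxy : Commute x0 y0 := h.inj (by
    rw [map_mul, map_mul, hxb, hyv]
    exact D.commA hb.1 (mul_mem (M.mem a) (M.mem p)))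
  refine { h with exch := ?_, keep := ?_ }
  · rintro _ ⟨x, hx, rfl⟩
    obtain ⟨c, hc, hcx⟩ := M23Rec.perp_lists (l := [(x0 : Fj)]) (l' := [(x : Fj)])
      ⟨List.nodup_singleton _, by simp [hx0.1], by simp⟩ ⟨List.nodup_singleton _, by simp [hx.1], by simp⟩
      (by simp [hx0]) (by simp [hx]) rfl (by simp)
    simp only [List.map_cons, List.map_nil, List.cons.injEq, and_true] at hcx
    have ex : ι x = ι ⟨c, hc⟩ * b * (ι ⟨c, hc⟩)⁻¹ := by
      rw [← hxb, ← map_inv, ← map_mul, ← map_mul]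
      exact congrArg ι (Subtype.ext hcx)
    have hct : Commute (ι ⟨c, hc⟩) t := h.comm_base _
    refine ⟨ι ⟨c, hc⟩ * w * (ι ⟨c, hc⟩)⁻¹, ?_, ?_⟩
    · rw [show ι ⟨c, hc⟩ * (w : G) * (ι ⟨c, hc⟩)⁻¹ * t * (ι ⟨c, hc⟩ * (w : G) * (ι ⟨c, hc⟩)⁻¹)⁻¹ =
        ι ⟨c, hc⟩ * ((w : G) * ((ι ⟨c, hc⟩)⁻¹ * (t * ι ⟨c, hc⟩)) * (w : G)⁻¹) * (ι ⟨c, hc⟩)⁻¹ by group,
        ← hct.eq, inv_mul_cancel_left, e1, ex]
    · rw [ex, show ι ⟨c, hc⟩ * (w : G) * (ι ⟨c, hc⟩)⁻¹ * (ι ⟨c, hc⟩ * b * (ι ⟨c, hc⟩)⁻¹) *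
        (ι ⟨c, hc⟩ * (w : G) * (ι ⟨c, hc⟩)⁻¹)⁻¹ = ι ⟨c, hc⟩ * ((w : G) * b * (w : G)⁻¹) * (ι ⟨c, hc⟩)⁻¹ by group, e2,
        hct.eq, mul_inv_cancel_right]
  · intro x y hx hy hne' hcom
    obtain ⟨c, hc, hcx⟩ := M23Rec.perp_lists (l := [(x0 : Fj), (y0 : Fj)]) (l' := [(x : Fj), (y : Fj)])
      ⟨by simpa using fun k : (x0 : Fj) = y0 => hxy (Subtype.ext k), by simp [hx0.1, hy0.1], fun p hp q hq => by
        simp only [List.mem_cons, List.not_mem_nil, or_false] at hp hq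
        rcases hp with rfl | rfl <;> rcases hq with rfl | rfl <;>
          first | exact Commute.refl _ | exact hcxy.map H23.subtype | exact hcxy.symm.map H23.subtype⟩
      ⟨by simpa using fun k : (x : Fj) = y => hne' (Subtype.ext k), by simp [hx.1, hy.1], fun p hp q hq => by
        simp only [List.mem_cons, List.not_mem_nil, or_false] at hp hq
        rcases hp with rfl | rfl <;> rcases hq with rfl | rfl <;>
          first | exact Commute.refl _ | exact hcom.map H23.subtype | exact hcom.symm.map H23.subtype⟩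
      (by simp [hx0, hy0]) (by simp [hx, hy]) rfl (by simp)
    simp only [List.map_cons, List.map_nil, List.cons.injEq, and_true] at hcx
    set r := ι ⟨c, hc⟩
    have ex : ι x = r * b * r⁻¹ := by
      rw [← hxb, ← map_inv, ← map_mul, ← map_mul]
      exact congrArg ι (Subtype.ext hcx.1)
    have ey : ι y = r * v * r⁻¹ := by
      rw [← hyv, ← map_inv, ← map_mul, ← map_mul]
      exact congrArg ι (Subtype.ext hcx.2)
    have hct : Commute r t := h.comm_base _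
    refine ⟨r * w * r⁻¹, ?_, ?_, ?_⟩
    · rw [show r * (w : G) * r⁻¹ * t * (r * (w : G) * r⁻¹)⁻¹ = r * ((w : G) * (r⁻¹ * (t * r)) * (w : G)⁻¹) * r⁻¹ by
        group, ← hct.eq, inv_mul_cancel_left, e1, ex]
    · rw [show (r * (w : G) * r⁻¹)⁻¹ * t * (r * (w : G) * r⁻¹) = r * ((w : G)⁻¹ * (r⁻¹ * (t * r)) * (w : G)) * r⁻¹ by
        group, ← hct.eq, inv_mul_cancel_left, show (w : G)⁻¹ * t * (w : G) = b by rw [← e2]; group]
      exact ⟨x, hx, ex⟩
    · rw [ey, show (r * (w : G) * r⁻¹)⁻¹ * (r * v * r⁻¹) * (r * (w : G) * r⁻¹) = r * ((w : G)⁻¹ * v * (w : G)) * r⁻¹ by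
        group, e3]
      exact ⟨y, hy, ey⟩

/-- A chosen lift can be put in the chosen class. -/
theorem Short.orient {t e : G} {ι : H23 →* G} (h : Short t ι) {b : H23} (hb : ι b = e)
    (hbP : (b : Fj) ∈ P0 ∨ ((FiTwenty.zH * b : H23) : Fj) ∈ P0) :
    ∃ ι₁ : H23 →* G, Short t ι₁ ∧ e ∈ NS ι₁ := by
  rcases hbP with hb' | hb'
  · exact ⟨ι, h, b, hb', hb⟩
  refine ⟨_, h.twist flip23.symm (flip23.symm_apply_eq.2 flip23_base.symm), flip23 b, ?_, ?_⟩
  · have h2 := flip23_spec hb'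
    rw [map_mul, flip23_base, coe_mul, ← mul_assoc,
      show zz * ((FiTwenty.zH : H23) : Fj) = 1 from M23Rec.zz_sq, one_mul] at h2
    exact h2
  · show ι (flip23.symm (flip23 b)) = e
    rw [MulEquiv.symm_apply_apply, hb]

/-- The configuration in a group of large Fischer type. -/
theorem exists_frames {Q : Subgroup (centralizer ({z} : Set G))} [Q.Normal]
    (hCore : Cfsg.Lib.USixType.CoreGoal.{u}) (hF : Cfsg.IsOfLargeFischerTypeAt z Q) :
    ∃ (t : G) (ι : H23 →* G), Frames t ι ∧ ¬ IsConj z t ∧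
      ∃ q : ↥Q, ((q : ↥(centralizer ({z} : Set G))) : G) = t := by
  obtain ⟨c, L, P, k, ι₀, b, h₀, hb, hbP, hta, htb⟩ := exists_short hCore hF
  obtain ⟨hna, hnb, hab⟩ := L.ab_ne
  obtain ⟨ι₁, h₁, hbN⟩ := h₀.orient hb hbP
  set g := (k : G)
  set ι := (MulAut.conj g).toMonoidHom.comp ι₁
  have h : Short (g * L.ga * g⁻¹) ι := h₁.conj g
  have hz : g * z = z * g := mem_centralizer_singleton_iff.mp k.2
  have hzc : ∀ {x : G}, ¬ IsConj z x → ¬ IsConj z (g * x * g⁻¹) := fun {x} hx hc =>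
    hx (hc.trans (IsConj.symm (isConj_iff.2 ⟨g, rfl⟩)))
  have hne1 : ∀ {x : G}, x ≠ 1 → g * x * g⁻¹ ≠ 1 := fun hx e => hx (conj_eq_one_iff.1 e)
  have hta' : g * L.ga * g⁻¹ ∈ P.sextet.T := ⟨hta, hne1 hna, hzc (L.not_conj L.a_mem)⟩
  have htb' : g * L.gb * g⁻¹ ∈ P.sextet.T := ⟨htb, hne1 hnb, hzc (L.not_conj L.b_mem)⟩
  have htab : g * L.ga * g⁻¹ * (g * L.gb * g⁻¹) ∈ P.sextet.T := by
    have hab1 : L.ga * L.gb ≠ 1 := fun e => hab (by
      rw [eq_inv_of_mul_eq_one_left e, inv_eq_of_mul_eq_one_right L.sq_b])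
    rw [show g * L.ga * g⁻¹ * (g * L.gb * g⁻¹) = g * (L.ga * L.gb) * g⁻¹ by group]
    refine ⟨?_, hne1 hab1, hzc (L.not_conj (mul_mem L.a_mem L.b_mem))⟩
    rw [show g * (L.ga * L.gb) * g⁻¹ = g * L.ga * g⁻¹ * (g * L.gb * g⁻¹) by group]
    exact mul_mem hta htb
  obtain ⟨x, hx, hxb⟩ := hbN
  have hbι : ι x = g * L.gb * g⁻¹ := by
    rw [← hxb]
    exact (MonoidHom.comp_apply _ _ _).trans (MulAut.conj_apply _ _)
  have hne : g * L.ga * g⁻¹ ≠ g * L.gb * g⁻¹ := fun e => hab (mul_left_cancel (mul_right_cancel e))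
  have hfr : Frames (g * L.ga * g⁻¹) ι :=
    frames_of_duads (D := P.sextet) (b := g * L.gb * g⁻¹) P.large_sextet h hta' htb' htab hne ⟨x, hx, hbι⟩
  refine ⟨g * L.ga * g⁻¹, ι, hfr, hzc (L.not_conj L.a_mem), ?_⟩
  exact ⟨⟨k * (L.a : ↥(centralizer ({z} : Set G))) * k⁻¹, ‹Q.Normal›.conj_mem _ L.a.2 k⟩, rfl⟩

end Cfsg.Lib.FiPrime
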