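import Cfsg.Agent.M23Rec.View
import Cfsg.Agent.FiOuter.Core

/-!
The double cover of the smallest Fischer group sitting with index two in the centraliser of an involution: its two
classes of lifts of transpositions, and the coherence of the chosen classes at neighbouring members.
-/

set_option autoImplicit false
set_option linter.unusedSectionVars false
set_option linter.style.haveILetI false
set_option maxRecDepth 20000

namespace Cfsg.Lib.FiPrime

open Subgroup Cfsg.Lib.ThreeTr Cfsg.Lib.CosetCert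
open Cfsg.Lib.M23Rec (Fj zz D0 P0 H23 h23 zz_mem zz_sq mem_H P0_le P0_conj finite_fj)
open scoped commutatorElement

attribute [local irreducible] FiTwenty.sig0 FiTwenty.sig1 FiTwenty.sig2 FiTwenty.sig3 FiTwenty.sig4 FiTwenty.sig5
  FiTwenty.sig6 FiTwenty.sig7 FiTwenty.sig8 FiTwenty.sig9 FiTwenty.sig10 FiTwenty.subPts FiTwenty.subIdx
  FiTwenty.subTree1Mask FiTwenty.subTree2Mask

universe u

/-- The base member does not carry a neighbour to a neighbour. -/
theorem zz_mul_not {x : Fj} (hx : x ∈ P0) : zz * x ∉ P0 := fun h => by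
  haveI := finite_fj
  have := h23.length_unique (l := [zz, x]) (l' := [zz * x]) ⟨by simpa using fun e => hx.2.1 e.symm,
    by simp [hx.1, zz_mem], fun a ha b hb => by
      simp only [List.mem_cons, List.not_mem_nil, or_false] at ha hb
      rcases ha with rfl | rfl <;> rcases hb with rfl | rfl <;>
        first | exact Commute.refl _ | exact hx.2.2 | exact hx.2.2.symm⟩
    ⟨List.nodup_singleton _, by simpa using h.1, by simp⟩ (by simp) (by simp) (by simp) (by simp) (by simp)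
  simp at this

/-- The exchange of the two classes of lifts. -/
noncomputable def flip23 : MulAut H23 := M23Rec.swap.choose

theorem flip23_spec {x : H23} (hx : (x : Fj) ∈ P0) : zz * (flip23 x : Fj) ∈ P0 := M23Rec.swap.choose_spec.2 x hx

theorem flip23_base : flip23 FiTwenty.zH = FiTwenty.zH :=
  Subtype.ext (M23Rec.swap.choose_spec.1.trans (congrArg Subtype.val (rfl : FiTwenty.zH = FiTwenty.zH)))

theorem comm_shift {G : Type*} [Group G] {a b p q : G} (hp : ∀ y, Commute p y) (hq : ∀ y, Commute q y) :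
    ⁅a * p, b * q⁆ = ⁅a, b⁆ := by
  simp only [commutatorElement_def, mul_inv_rev]
  calc a * p * (b * q) * (p⁻¹ * a⁻¹) * (q⁻¹ * b⁻¹) = a * (p * (b * q)) * p⁻¹ * a⁻¹ * q⁻¹ * b⁻¹ := by group
    _ = a * b * q * a⁻¹ * q⁻¹ * b⁻¹ := by rw [(hp _).eq]; group
    _ = a * b * (q * a⁻¹) * q⁻¹ * b⁻¹ := by group
    _ = a * b * a⁻¹ * b⁻¹ := by rw [(hq _).eq]; group

theorem aut_ext {α β : MulAut H23} (h : ∀ x, FiTwenty.down (α x) = FiTwenty.down (β x)) : α = β := by
  have hz : ∀ x, ∃ p : H23, (∀ y, Commute p y) ∧ α x = β x * p := fun x => by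
    refine ⟨(β x)⁻¹ * α x, fun y => (mem_center_iff.1 (FiTwenty.center_eq.ge ?_) y).symm, by group⟩
    rw [MonoidHom.mem_ker, map_mul, map_inv, h, inv_mul_cancel]
  have hle : _root_.commutator H23 ≤ MonoidHom.eqLocus α.toMonoidHom β.toMonoidHom := by
    rw [_root_.commutator_def, commutator_le]
    intro a _ b _
    show α ⁅a, b⁆ = β ⁅a, b⁆
    obtain ⟨p, hp, ea⟩ := hz a
    obtain ⟨q, hq, eb⟩ := hz b
    rw [map_commutatorElement, map_commutatorElement, ea, eb, comm_shift hp hq]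
  exact MulEquiv.ext fun x => hle (FiSixfold.double_perfect.symm ▸ mem_top x)

theorem exists_bar (α : MulAut H23) : ∃ f : MulAut Cfsg.Spor.Fi22, ∀ x, f (FiTwenty.down x) = FiTwenty.down (α x) := by
  haveI := FiPres.finite_fi
  let g : H23 →* Cfsg.Spor.Fi22 := FiTwenty.down.comp α.toMonoidHom
  have hk : FiTwenty.down.ker ≤ g.ker := fun x hx => by
    have h1 : α x ∈ center H23 := mem_center_iff.2 fun y => by
      have := mem_center_iff.1 (FiTwenty.center_eq ▸ hx : x ∈ center H23) (α.symm y)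
      simpa using congrArg α this
    exact FiTwenty.center_eq.le h1
  let f := FiTwenty.down.liftOfSurjective FiTwenty.down_surjective ⟨g, hk⟩
  have hf : ∀ x, f (FiTwenty.down x) = FiTwenty.down (α x) := fun x =>
    MonoidHom.liftOfRightInverse_comp_apply _ _ _ _ x
  have hs : Function.Surjective f := fun y => by
    obtain ⟨x, rfl⟩ := FiTwenty.down_surjective y
    exact ⟨FiTwenty.down (α.symm x), by rw [hf, MulEquiv.apply_symm_apply]⟩
  exact ⟨MulEquiv.ofBijective f ⟨Finite.injective_iff_surjective.2 hs, hs⟩, hf⟩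

/-- Every automorphism is inner or the exchange followed by an inner one. -/
theorem aut_cases (α : MulAut H23) :
    (∃ c, ∀ x, α x = c * x * c⁻¹) ∨ ∃ c, ∀ x, α x = c * flip23 x * c⁻¹ := by
  haveI := finite_fj
  obtain ⟨f, hf⟩ := exists_bar α
  obtain ⟨s, hs⟩ := exists_bar flip23
  have hinner : ∀ {β : MulAut H23} {b : MulAut Cfsg.Spor.Fi22}, (∀ x, b (FiTwenty.down x) = FiTwenty.down (β x)) →
      b ∈ (MulAut.conj : Cfsg.Spor.Fi22 →* MulAut Cfsg.Spor.Fi22).range → ∃ c, ∀ x, β x = c * x * c⁻¹ := by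
    rintro β b hb ⟨y, rfl⟩
    obtain ⟨c, rfl⟩ := FiTwenty.down_surjective y
    have e : β = MulAut.conj c := aut_ext fun x => by
      rw [← hb x]
      simp
    exact ⟨c, fun x => by rw [e]; rfl⟩
  have hsn : s ∉ (MulAut.conj : Cfsg.Spor.Fi22 →* MulAut Cfsg.Spor.Fi22).range := fun h => by
    obtain ⟨c, hc⟩ := hinner hs h
    have h0 := flip23_spec (x := ⟨_, P0_le M23Rec.letter_P0⟩) M23Rec.letter_P0
    rw [hc, coe_mul, coe_mul, coe_inv] at h0
    exact zz_mul_not (P0_conj c.2 M23Rec.letter_P0) h0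
  by_cases h : f ∈ (MulAut.conj : Cfsg.Spor.Fi22 →* MulAut Cfsg.Spor.Fi22).range
  · exact Or.inl (hinner hf h)
  · right
    have h2 : f * s⁻¹ ∈ (MulAut.conj : Cfsg.Spor.Fi22 →* MulAut Cfsg.Spor.Fi22).range :=
      (mul_mem_iff_of_index_two FiOuter.inn_index).2 (iff_of_false h (by rwa [inv_mem_iff]))
    have hb : ∀ x, (f * s⁻¹) (FiTwenty.down x) = FiTwenty.down ((α * flip23⁻¹) x) := fun x => by
      have e : s⁻¹ (FiTwenty.down x) = FiTwenty.down (flip23⁻¹ x) := by
        refine s.injective ?_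
        rw [hs]
        simp
      rw [MulAut.mul_apply, MulAut.mul_apply, e, hf]
    obtain ⟨c, hc⟩ := hinner hb h2
    refine ⟨c, fun x => ?_⟩
    have := hc (flip23 x)
    rwa [MulAut.mul_apply, MulAut.inv_apply_self] at this

variable {G : Type u} [Group G]

/-- The chosen class of lifts. -/
def NS (ι : H23 →* G) : Set G := {e | ∃ x : H23, (x : Fj) ∈ P0 ∧ ι x = e}

/-- The class at a translate of the involution. -/
def Fr (ι : H23 →* G) (g : G) : Set G := {e | g⁻¹ * e * g ∈ NS ι}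

theorem mem_Fr_one {ι : H23 →* G} {e : G} : e ∈ Fr ι 1 ↔ e ∈ NS ι := by simp [Fr]

/-- The double cover as a subgroup of index two of the centraliser. -/
structure Short (t : G) (ι : H23 →* G) : Prop where
  inj : Function.Injective ι
  base : ι FiTwenty.zH = t
  two : ∀ g h, Commute g t → Commute h t → g ∉ ι.range → h ∉ ι.range → g * h ∈ ι.range
  outer : ∃ q, Commute q t ∧ q ∉ ι.range
  cen : ∀ g, Commute g t → (∀ x, Commute g (ι x)) → g ∈ ι.range

namespace Short

variable {t : G} {ι : H23 →* G} (h : Short t ι)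
include h

theorem comm_base (x : H23) : Commute (ι x) t := by
  rw [← h.base]
  exact (show Commute x FiTwenty.zH from Subtype.ext (mem_H.1 x.2).eq).map ι

theorem sq : t * t = 1 := by
  rw [← h.base, ← map_mul, show FiTwenty.zH * FiTwenty.zH = 1 from Subtype.ext FiTwenty.z_sq, map_one]

theorem inv_t : t⁻¹ = t := inv_eq_of_mul_eq_one_right h.sq

theorem comm_of_range {g : G} (hg : g ∈ ι.range) : Commute g t := by
  obtain ⟨x, rfl⟩ := hg
  exact h.comm_base x

theorem normal {g : G} (hg : Commute g t) (x : H23) : g * ι x * g⁻¹ ∈ ι.range := by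
  by_cases hgr : g ∈ ι.range
  · exact mul_mem (mul_mem hgr ⟨x, rfl⟩) (inv_mem hgr)
  · refine h.two _ _ (hg.mul_left (h.comm_base x)) hg.inv_left (fun k => hgr ?_) (fun k => hgr (inv_mem_iff.1 k))
    exact (mul_mem_cancel_right (MonoidHom.mem_range.2 ⟨x, rfl⟩)).1 k

theorem induced {g : G} (hg : Commute g t) : ∃ α : MulAut H23, ∀ x, ι (α x) = g * ι x * g⁻¹ := by
  haveI := finite_fj
  choose f hf using fun x => h.normal hg x
  let φ : H23 →* H23 := MonoidHom.mk' f fun a b => h.inj (by rw [map_mul, hf, hf, hf, map_mul]; group)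
  have hi : Function.Injective φ := fun a b e => h.inj (by
    have e' : ι (f a) = ι (f b) := congrArg ι e
    rw [hf, hf] at e'
    exact mul_left_cancel (mul_right_cancel e'))
  exact ⟨MulEquiv.ofBijective φ (Finite.injective_iff_bijective.1 hi), hf⟩

/-- Outer elements act as the exchange. -/
theorem outer_form {g : G} (hg : Commute g t) (hgr : g ∉ ι.range) :
    ∃ c, ∀ x, g * ι x * g⁻¹ = ι (c * flip23 x * c⁻¹) := by
  obtain ⟨α, hα⟩ := h.induced hg
  rcases aut_cases α with ⟨c, hc⟩ | ⟨c, hc⟩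
  · exfalso
    refine hgr ((mul_mem_cancel_left (inv_mem (MonoidHom.mem_range.2 ⟨c, rfl⟩))).1
      (h.cen _ ((h.comm_base c).inv_left.mul_left hg) fun x => ?_))
    have e := hα x
    rw [hc, map_mul, map_mul, map_inv] at e
    show (ι c)⁻¹ * g * ι x = ι x * ((ι c)⁻¹ * g)
    calc (ι c)⁻¹ * g * ι x = (ι c)⁻¹ * (g * ι x * g⁻¹) * g := by group
      _ = (ι c)⁻¹ * (ι c * ι x * (ι c)⁻¹) * g := by rw [e]
      _ = ι x * ((ι c)⁻¹ * g) := by group
  · exact ⟨c, fun x => by rw [← hα, hc]⟩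

theorem keepN {g : G} (hg : g ∈ ι.range) {n : G} (hn : n ∈ NS ι) : g * n * g⁻¹ ∈ NS ι := by
  obtain ⟨c, rfl⟩ := hg
  obtain ⟨x, hx, rfl⟩ := hn
  refine ⟨c * x * c⁻¹, ?_, by rw [map_mul, map_mul, map_inv]⟩
  rw [coe_mul, coe_mul, coe_inv]
  exact P0_conj c.2 hx

theorem shifted_not {n : G} (hn : n ∈ NS ι) : t * n ∉ NS ι := by
  rintro ⟨y, hy, e⟩
  obtain ⟨x, hx, rfl⟩ := hn
  rw [← h.base, ← map_mul] at e
  have := congrArg Subtype.val (h.inj e)
  rw [this, coe_mul] at hy
  exact zz_mul_not hx hy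

theorem flipN {g : G} (hg : Commute g t) (hgr : g ∉ ι.range) {n : G} (hn : n ∈ NS ι) :
    g * n * g⁻¹ ∉ NS ι ∧ t * (g * n * g⁻¹) ∈ NS ι := by
  obtain ⟨c, hc⟩ := h.outer_form hg hgr
  obtain ⟨x, hx, rfl⟩ := hn
  have h1 : t * (g * ι x * g⁻¹) ∈ NS ι := by
    refine ⟨c * (FiTwenty.zH * flip23 x) * c⁻¹, ?_, ?_⟩
    · rw [coe_mul, coe_mul, coe_inv, coe_mul]
      exact P0_conj c.2 (flip23_spec hx)
    · rw [hc, ← h.base, ← map_mul]
      refine congrArg ι ?_
      rw [show c * (FiTwenty.zH * flip23 x) * c⁻¹ = c * FiTwenty.zH * flip23 x * c⁻¹ by group,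
        show c * FiTwenty.zH = FiTwenty.zH * c from Subtype.ext (mem_H.1 c.2).eq]
      group
  exact ⟨fun k => h.shifted_not k h1, h1⟩

theorem inner_of {g : G} (hg : Commute g t) {n : G} (hn : n ∈ NS ι) (hgn : g * n * g⁻¹ ∈ NS ι) : g ∈ ι.range :=
  by_contra fun k => (h.flipN hg k hn).1 hgn

theorem comm_N {n : G} (hn : n ∈ NS ι) : Commute n t := by
  obtain ⟨x, -, rfl⟩ := hn
  exact h.comm_base x

theorem ne_N {n : G} (hn : n ∈ NS ι) : n ≠ t := by
  obtain ⟨x, hx, rfl⟩ := hn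
  rw [← h.base]
  exact fun e => hx.2.1 (congrArg Subtype.val (h.inj e))

theorem sq_N {n : G} (hn : n ∈ NS ι) : n * n = 1 := by
  obtain ⟨x, hx, rfl⟩ := hn
  haveI := finite_fj
  rw [← map_mul, show x * x = 1 from Subtype.ext (sq_eq_one h23.cls.1 hx.1), map_one]

theorem cube_N {a b : G} (ha : a ∈ NS ι) (hb : b ∈ NS ι) (hc : ¬ Commute a b) : (a * b) ^ 3 = 1 := by
  haveI := finite_fj
  obtain ⟨x, hx, rfl⟩ := ha
  obtain ⟨y, hy, rfl⟩ := hb
  rw [← map_mul, ← map_pow, ← map_one ι]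
  refine congrArg ι (Subtype.ext ?_)
  rw [SubmonoidClass.coe_pow, coe_mul, OneMemClass.coe_one]
  exact cube_of_not_commute h23.cls.1 hx.1 hy.1 fun e => hc ((show Commute x y from Subtype.ext e.eq).map ι)

theorem cube_Fr {g a b : G} (ha : a ∈ Fr ι g) (hb : b ∈ Fr ι g) (hc : ¬ Commute a b) : (a * b) ^ 3 = 1 := by
  have := h.cube_N ha hb fun e => hc (by
    have := e.map (MulAut.conj g)
    simpa [mul_assoc] using this)
  rw [show g⁻¹ * a * g * (g⁻¹ * b * g) = g⁻¹ * (a * b) * g⁻¹⁻¹ by group, conj_pow] at this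
  have := congrArg (fun y => g * y * g⁻¹) this
  simpa [mul_assoc] using this

end Short

/-- Exchanges with members and coherence at commuting pairs. -/
structure Frames (t : G) (ι : H23 →* G) : Prop extends Short t ι where
  exch : ∀ a ∈ NS ι, ∃ w, w * t * w⁻¹ = a ∧ w * a * w⁻¹ = t
  keep : ∀ x y : H23, (x : Fj) ∈ P0 → (y : Fj) ∈ P0 → x ≠ y → Commute x y →
    ∃ w, w * t * w⁻¹ = ι x ∧ w⁻¹ * t * w ∈ NS ι ∧ w⁻¹ * ι y * w ∈ NS ι

namespace Frames

variable {t : G} {ι : H23 →* G} (h : Frames t ι)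
include h

/-- Translates of the involution with a common member have the same class. -/
theorem fr_eq {g k n e : G} (hgk : g * t * g⁻¹ = k * t * k⁻¹) (hng : n ∈ Fr ι g) (hnk : n ∈ Fr ι k)
    (he : e ∈ Fr ι g) : e ∈ Fr ι k := by
  have hc : Commute (k⁻¹ * g) t := by
    show k⁻¹ * g * t = t * (k⁻¹ * g)
    calc k⁻¹ * g * t = k⁻¹ * (g * t * g⁻¹) * g := by group
      _ = k⁻¹ * (k * t * k⁻¹) * g := by rw [hgk]
      _ = t * (k⁻¹ * g) := by group
  have hin := h.inner_of hc (n := g⁻¹ * n * g) hng (by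
    rw [show k⁻¹ * g * (g⁻¹ * n * g) * (k⁻¹ * g)⁻¹ = k⁻¹ * n * k by group]
    exact hnk)
  have := h.keepN hin (n := g⁻¹ * e * g) he
  show k⁻¹ * e * k ∈ NS ι
  convert this using 1
  group

theorem comm_Fr {g b : G} (hb : b ∈ Fr ι g) : Commute b (g * t * g⁻¹) := by
  have := (h.comm_N hb).map (MulAut.conj g)
  simpa [mul_assoc] using this

theorem ne_Fr {g b : G} (hb : b ∈ Fr ι g) : b ≠ g * t * g⁻¹ := fun e => h.ne_N hb (by rw [e]; group)

/-- Coherence at a commuting pair. -/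
theorem coh {g k e : G} (hb : k * t * k⁻¹ ∈ Fr ι g) (ha : g * t * g⁻¹ ∈ Fr ι k) (he : e ∈ Fr ι g)
    (hc : Commute e (k * t * k⁻¹)) (hne : e ≠ k * t * k⁻¹) : e ∈ Fr ι k := by
  obtain ⟨x, hx, hxe⟩ := hb
  obtain ⟨y, hy, hye⟩ := he
  have hxy : x ≠ y := by
    rintro rfl
    rw [hxe] at hye
    exact hne (mul_left_cancel (mul_right_cancel hye)).symm
  have hcom : Commute x y := h.inj (by
    rw [map_mul, map_mul, hxe, hye]
    exact (hc.symm.map (MulAut.conj g⁻¹)).eq |> fun e => by simpa [mul_assoc] using e)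
  obtain ⟨w, w1, w2, w3⟩ := h.keep x y hx hy hxy hcom
  have key := h.fr_eq (g := w) (k := g⁻¹ * k) (n := t) (e := ι y) (by rw [w1, hxe]; group) w2 (by
    show _ ∈ NS ι
    have : k⁻¹ * (g * t * g⁻¹) * k ∈ NS ι := ha
    convert this using 1
    group) w3
  show k⁻¹ * e * k ∈ NS ι
  have : (g⁻¹ * k)⁻¹ * ι y * (g⁻¹ * k) ∈ NS ι := key
  convert this using 1
  rw [hye]
  group

/-- The class at a member contains the involution and what the chosen one sees. -/
theorem exch_frame {a : G} (ha : a ∈ NS ι) : ∃ w, w * t * w⁻¹ = a ∧ t ∈ Fr ι w ∧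
    ∀ e ∈ NS ι, Commute e a → e ≠ a → e ∈ Fr ι w := by
  obtain ⟨w, w1, w2⟩ := h.exch a ha
  have ht : t ∈ Fr ι w := by
    show w⁻¹ * t * w ∈ NS ι
    rw [show w⁻¹ * t * w = a by rw [← w2]; group]
    exact ha
  refine ⟨w, w1, ht, fun e he hc hne => ?_⟩
  refine h.coh (g := 1) ?_ ?_ (mem_Fr_one.2 he) (by rw [w1]; exact hc) (by rw [w1]; exact hne)
  · rw [w1]; exact mem_Fr_one.2 ha
  · simpa using ht

end Frames

end Cfsg.Lib.FiPrime
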