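import Cfsg.Agent.FiPrime.View
import Cfsg.Agent.M24Rec.Colour

/-!
The element standing for the product of the last two letters: every element fixing both letters in the model
conjugates it to itself or to its inverse according to its sign.
-/

set_option autoImplicit false
set_option linter.unusedSectionVars false
set_option linter.style.haveILetI false
set_option maxRecDepth 100000
set_option maxHeartbeats 1000000

namespace Cfsg.Lib.FiPrime

open Subgroup Cfsg.Lib.ThreeTr Cfsg.Lib.CosetCert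
open Cfsg.Lib.M23Rec (Fj zz D0 P0 H23 h23 zz_mem zz_sq mem_H P0_le finite_fj)
open Cfsg.Lib.FiTypes (fourL)
open Cfsg.Lib.M24Rec (Fk E0 ll kk CM h24 finite_fk ll_mem ll_sq mem_CM perp_CM ll_CM perp_chi down_ll down_perp
  perp_ext perp_of_down KC lamC_lt letter_fix letter_near letter_comm_kk letter_fourL colour colour_letter mem_KC
  fourL_gen mem_fourL comm_letters cent_letters partner_ok letter_ne low lt)

attribute [local irreducible] FiFour.rowF FiFour.sevF FiFour.lonF FiFour.blkMask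
attribute [local irreducible] FiTwenty.sig0 FiTwenty.sig1 FiTwenty.sig2 FiTwenty.sig3 FiTwenty.sig4 FiTwenty.sig5
  FiTwenty.sig6 FiTwenty.sig7 FiTwenty.sig8 FiTwenty.sig9 FiTwenty.sig10 FiTwenty.subPts FiTwenty.subIdx
  FiTwenty.subTree1Mask FiTwenty.subTree2Mask

universe u

theorem lab_near : ∀ x ∈ FiFour.lamC, (x = 9 ∨ FiFour.lab x 9 = 2) ∨ (x = 1 ∨ FiFour.lab x 1 = 2) := by
  decide +kernel

theorem lab_top : FiFour.lab 0 9 = 2 ∧ FiFour.lab 0 11 = 3 ∧ FiFour.lab 9 1 = 2 ∧ FiFour.lab 10 11 = 3 ∧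
    FiFour.letterPoint 9 ≠ FiFour.letterPoint 1 := by decide +kernel

/-- The power by a sign. -/
def sgn {G : Type*} [Inv G] (u : ℤˣ) (y : G) : G := if u = 1 then y else y⁻¹

theorem sign_colour {g : ↥fourL} (hg : g.1 ∈ KC) : Equiv.Perm.sign (colour g) = FiFour.chi g.1 := by
  have hle : KC ≤ (MonoidHom.eqLocus ((Equiv.Perm.sign (α := Fin 3)).comp colour)
      (FiFour.chi.comp fourL.subtype)).map fourL.subtype := by
    refine (closure_le _).2 ?_
    rintro _ ⟨x, hx, rfl⟩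
    refine ⟨⟨_, letter_fourL hx⟩, ?_, rfl⟩
    show Equiv.Perm.sign (colour _) = FiFour.chi (FiFour.im x)
    rw [colour_letter hx, FiFour.chi_im (by have := (lamC_lt x hx).1; omega)]
    decide
  obtain ⟨k, hk, e⟩ := hle hg
  exact (Subtype.ext e : k = g) ▸ hk

theorem plain_even {g : ↥fourL} (hg : colour g = 1) : FiFour.chi g.1 = 1 := by
  rw [← sign_colour (mem_KC (by rw [hg]; rfl)), hg, map_one]

theorem pow_lab {x y : ℕ} (hx : x < 12) (hy : y < 12) :
    (FiFour.im x * FiFour.im y) ^ FiFour.lab x y = 1 := by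
  have := FiFour.good_im.pair_word hx hy
  rwa [FiFour.pairWord, FiFour.wval_rpt, FiFour.wval_cons, FiFour.wval_single] at this

theorem ll_odd : FiFour.chi ll = -1 := FiFour.chi_transp ll_mem

theorem kk_odd : FiFour.chi kk = -1 := FiFour.chi_im (by norm_num)

/-- An element of the centraliser made even. -/
theorem evened (k : CM) : ∃ k' : CM, FiFour.chi k'.1 = 1 ∧ FiFour.down k' = FiFour.down k ∧
    (FiFour.chi k.1 = 1 ∧ k'.1 = k.1 ∨ FiFour.chi k.1 = -1 ∧ k'.1 = k.1 * ll) := by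
  rcases Int.units_eq_one_or (FiFour.chi k.1) with e | e
  · exact ⟨k, e, rfl, Or.inl ⟨e, rfl⟩⟩
  · exact ⟨k * ⟨ll, ll_CM⟩, by rw [coe_mul, map_mul, e, ll_odd]; decide, by rw [map_mul, down_ll, mul_one],
      Or.inr ⟨e, rfl⟩⟩

variable {G : Type u} [Group G] [Finite G] {t : G} {θ₀ : Fj →* G} (hinj : Function.Injective θ₀)
  (hbase : θ₀ zz = t) (h : Frames t (θ₀.comp H23.subtype))

/-- The centraliser of the distinguished member in the group. -/
noncomputable def th (θ₀ : Fj →* G) : CM →* G := θ₀.comp FiFour.down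

/-- The elements acting on `y` by the sign. -/
def Rel (θ₀ : Fj →* G) (y : G) : Subgroup CM where
  carrier := {k | th θ₀ k * y * (th θ₀ k)⁻¹ = sgn (FiFour.chi k.1) y}
  one_mem' := by simp [sgn]
  mul_mem' := by
    intro a b (ha : th θ₀ a * y * (th θ₀ a)⁻¹ = _) (hb : th θ₀ b * y * (th θ₀ b)⁻¹ = _)
    show th θ₀ (a * b) * y * (th θ₀ (a * b))⁻¹ = sgn (FiFour.chi (a.1 * b.1)) y
    rw [map_mul, show th θ₀ a * th θ₀ b * y * (th θ₀ a * th θ₀ b)⁻¹ =
      th θ₀ a * (th θ₀ b * y * (th θ₀ b)⁻¹) * (th θ₀ a)⁻¹ by group, hb, map_mul]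
    rcases Int.units_eq_one_or (FiFour.chi a.1) with ea | ea <;>
      rcases Int.units_eq_one_or (FiFour.chi b.1) with eb | eb <;>
      simp only [ea, eb, sgn, if_pos, if_neg (show ¬ (-1 : ℤˣ) = 1 by decide), one_mul, mul_one] at ha ⊢
    · exact ha
    · rw [← conj_inv, ha]
    · exact ha
    · rw [← conj_inv, ha, inv_inv]
      simp
  inv_mem' := by
    intro a (ha : th θ₀ a * y * (th θ₀ a)⁻¹ = _)
    show th θ₀ a⁻¹ * y * (th θ₀ a⁻¹)⁻¹ = sgn (FiFour.chi (a.1⁻¹)) y
    rw [map_inv, map_inv, inv_inv]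
    rcases Int.units_eq_one_or (FiFour.chi a.1) with ea | ea <;>
      simp only [ea, sgn, inv_one, inv_neg, if_pos, if_neg (show ¬ (-1 : ℤˣ) = 1 by decide)] at ha ⊢
    · calc (th θ₀ a)⁻¹ * y * th θ₀ a = (th θ₀ a)⁻¹ * (th θ₀ a * y * (th θ₀ a)⁻¹) * th θ₀ a := by rw [ha]
        _ = y := by group
    · calc (th θ₀ a)⁻¹ * y * th θ₀ a = (th θ₀ a)⁻¹ * (th θ₀ a * y * (th θ₀ a)⁻¹)⁻¹ * th θ₀ a := by
            rw [ha, inv_inv]
        _ = y⁻¹ := by group

theorem mem_Rel {θ₀ : Fj →* G} {y : G} {k : CM} :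
    k ∈ Rel θ₀ y ↔ th θ₀ k * y * (th θ₀ k)⁻¹ = sgn (FiFour.chi k.1) y := Iff.rfl

theorem Rel_inv {θ₀ : Fj →* G} {y : G} {k : CM} (hk : k ∈ Rel θ₀ y⁻¹) : k ∈ Rel θ₀ y := by
  rw [mem_Rel] at hk ⊢
  rcases Int.units_eq_one_or (FiFour.chi k.1) with e | e <;>
    simp only [e, sgn, if_pos, if_neg (show ¬ (-1 : ℤˣ) = 1 by decide), inv_inv] at hk ⊢ <;>
    rw [← conj_inv, inv_eq_iff_eq_inv] at hk <;> simpa using hk

theorem kl_EC {x : Fk} (h1 : Commute ll x) (h2 : Commute kk x) : kk * ll ∈ EC x :=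
  mem_EC.2 ⟨h2.mul_left h1, by rw [map_mul, kk_odd, ll_odd]; decide⟩

/-- What a view says about the elements near its member. -/
theorem view_rel {x : CM} (hx : x.1 ∈ perp E0 ll) (hxk : Commute kk x.1) {Φ : ↥(EC x.1) →* G} (hΦ : View θ₀ x Φ)
    {k : CM} (hk1 : Commute k.1 kk) (hk2 : Commute k.1 x.1) : k ∈ Rel θ₀ (Φ ⟨_, kl_EC hx.2.2 hxk⟩) := by
  obtain ⟨k', hc, hd, hcase⟩ := evened k
  have hm : k'.1 ∈ EC x.1 := mem_EC.2 ⟨by
    rcases hcase with ⟨-, e⟩ | ⟨-, e⟩ <;> rw [e]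
    exacts [hk2, hk2.mul_left hx.2.2], hc⟩
  have e1 : th θ₀ k = Φ ⟨k'.1, hm⟩ := by
    rw [hΦ.agree ⟨k'.1, hm⟩ k'.2]
    exact congrArg θ₀ hd.symm
  rw [mem_Rel, e1, ← map_inv, ← map_mul, ← map_mul]
  have hkl : Commute k.1 ll := mem_CM.1 k.2
  rcases hcase with ⟨ek, e⟩ | ⟨ek, e⟩
  · rw [ek, sgn, if_pos rfl]
    refine congrArg Φ (Subtype.ext ?_)
    show k'.1 * (kk * ll) * k'.1⁻¹ = kk * ll
    rw [e, (hk1.mul_right hkl).eq, mul_inv_cancel_right]
  · rw [ek, sgn, if_neg (by decide), ← map_inv]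
    refine congrArg Φ (Subtype.ext ?_)
    show k'.1 * (kk * ll) * k'.1⁻¹ = (kk * ll)⁻¹
    rw [e, show k.1 * ll * (kk * ll) * (k.1 * ll)⁻¹ = k.1 * (ll * kk) * k.1⁻¹ by group,
      (hkl.mul_right hk1).eq, mul_inv_cancel_right, mul_inv_rev, inv_eq_of_mul_eq_one_right ll_sq,
      inv_eq_of_mul_eq_one_right (FiFour.im_sq 11)]

include hinj hbase h

theorem exists_last : ∃ y : G, y ^ 3 = 1 ∧ (th θ₀ (lt 0 (by norm_num)) * y⁻¹) ^ 3 = 1 ∧
    ∀ k : CM, Commute k.1 kk → k ∈ Rel θ₀ y := by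
  haveI := finite_fk
  haveI := finite_fj
  have h9C : (9 : ℕ) ∈ FiFour.lamC := by decide
  have h1C : (1 : ℕ) ∈ FiFour.lamC := by decide
  set x9 : CM := lt 9 (low 9 h9C)
  set x1 : CM := lt 1 (low 1 h1C)
  have p9 : x9.1 ∈ perp E0 ll := letter_near h9C
  have p1 : x1.1 ∈ perp E0 ll := letter_near h1C
  have k9 : Commute kk x9.1 := (letter_comm_kk h9C).symm
  have k1 : Commute kk x1.1 := (letter_comm_kk h1C).symm
  obtain ⟨Φ9, hΦ9⟩ := exists_view hinj hbase h p9
  obtain ⟨Φ1, hΦ1⟩ := exists_view hinj hbase h p1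
  set y := Φ9 ⟨_, kl_EC p9.2.2 k9⟩ with hy
  have h91 : Commute x9 x1 := Subtype.ext (FiFour.good_im.comm (by norm_num) (by norm_num) lab_top.2.2.1)
  have hne : x9 ≠ x1 := fun e => letter_ne (by norm_num) (by norm_num) lab_top.2.2.2.2 (congrArg Subtype.val e)
  have hy1 : Φ1 ⟨_, kl_EC p1.2.2 k1⟩ = y ∨ Φ1 ⟨_, kl_EC p1.2.2 k1⟩ = y⁻¹ := by
    rcases view_overlap hinj hbase h p9 p1 hne h91 hΦ9 hΦ1 (kk * ll) (kl_EC p9.2.2 k9) (kl_EC p1.2.2 k1) with
      e | ⟨hm, e⟩
    · exact Or.inl e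
    · refine Or.inr (e.trans ?_)
      rw [hy, ← map_inv]
      refine congrArg Φ9 (Subtype.ext ?_)
      show x9.1 * ll * (kk * ll) * (x9.1 * ll)⁻¹ = (kk * ll)⁻¹
      rw [show x9.1 * ll * (kk * ll) * (x9.1 * ll)⁻¹ = x9.1 * (ll * kk) * x9.1⁻¹ by group,
        ((p9.2.2.symm).mul_right k9.symm).eq, mul_inv_cancel_right, mul_inv_rev, inv_eq_of_mul_eq_one_right ll_sq,
        inv_eq_of_mul_eq_one_right (FiFour.im_sq 11)]
  -- the letters
  have hlet : ∀ x (hx : x ∈ FiFour.lamC), lt x (low x hx) ∈ Rel θ₀ y := by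
    intro x hx
    have hk : Commute (lt x (low x hx)).1 kk := letter_comm_kk hx
    have hlt : x < 12 := by have := (lamC_lt x hx).1; omega
    rcases lab_near x hx with hn | hn
    · refine view_rel p9 k9 hΦ9 hk ?_
      rcases hn with rfl | hn
      exacts [Commute.refl _, FiFour.good_im.comm hlt (by norm_num) hn]
    · have hk' : lt x (low x hx) ∈ Rel θ₀ (Φ1 ⟨_, kl_EC p1.2.2 k1⟩) := by
        refine view_rel p1 k1 hΦ1 hk ?_
        rcases hn with rfl | hn
        exacts [Commute.refl _, FiFour.good_im.comm hlt (by norm_num) hn]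
      rcases hy1 with e | e <;> rw [e] at hk'
      exacts [hk', Rel_inv hk']
  have hKC : ∀ g : CM, g.1 ∈ KC → g ∈ Rel θ₀ y := by
    intro g hg
    have hle : KC ≤ (Rel θ₀ y).map CM.subtype := (closure_le _).2 (by
      rintro _ ⟨x, hx, rfl⟩
      exact ⟨lt x (low x hx), hlet x hx, rfl⟩)
    obtain ⟨a, ha, e⟩ := hle hg
    exact (Subtype.ext e : a = g) ▸ ha
  -- the elements centralising those of trivial colour
  set P : Set G := {w | ∃ g : CM, ∃ hg : g.1 ∈ fourL, colour ⟨g.1, hg⟩ = 1 ∧ th θ₀ g = w} with hP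
  set W : Subgroup G := centralizer P
  have hyW : y ∈ W := by
    rw [mem_centralizer_iff]
    rintro _ ⟨g, hg, hgc, rfl⟩
    have e := mem_Rel.1 (hKC g (mem_KC (g := ⟨g.1, hg⟩) (by rw [hgc]; rfl)))
    rw [plain_even (g := ⟨g.1, hg⟩) hgc, sgn, if_pos rfl, mul_inv_eq_iff_eq_mul] at e
    exact e
  have hWconj : ∀ {s : CM}, s.1 ∈ fourL → ∀ u ∈ W, (th θ₀ s)⁻¹ * u * th θ₀ s ∈ W := by
    intro s hs u hu
    rw [mem_centralizer_iff] at hu ⊢
    rintro _ ⟨g, hg, hgc, rfl⟩
    have := hu (th θ₀ (s * g * s⁻¹)) ⟨_, mul_mem (mul_mem hs hg) (inv_mem hs), by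
      show colour (⟨s.1, hs⟩ * ⟨g.1, hg⟩ * ⟨s.1, hs⟩⁻¹) = 1
      rw [map_mul, map_mul, hgc, mul_one, map_inv, mul_inv_cancel], rfl⟩
    rw [map_mul, map_mul, map_inv] at this
    calc th θ₀ g * ((th θ₀ s)⁻¹ * u * th θ₀ s)
        = (th θ₀ s)⁻¹ * (th θ₀ s * th θ₀ g * (th θ₀ s)⁻¹ * u) * th θ₀ s := by group
      _ = (th θ₀ s)⁻¹ * u * th θ₀ s * th θ₀ g := by rw [this]; group
  have hinvW : ∀ x (hx : x ∈ FiFour.lamC), ∀ u ∈ W,
      th θ₀ (lt x (low x hx)) * u * (th θ₀ (lt x (low x hx)))⁻¹ = u⁻¹ := by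
    intro x hx
    set kx : CM := lt x (low x hx) with hkx
    set b := th θ₀ kx with hb
    have hbb : b * b = 1 := by
      rw [hb, ← map_mul, show kx * kx = 1 from Subtype.ext (FiFour.im_sq x), map_one]
    have hbi : b⁻¹ = b := inv_eq_of_mul_eq_one_right hbb
    have hfix : ∀ u ∈ W, Commute u b → u = 1 := by
      intro u hu hub
      rw [mem_centralizer_iff] at hu
      set z2 := FiFour.down kx with hz2
      obtain ⟨f, hf⟩ := isConj_iff.1 (show IsConj zz z2 from down_perp (v := kx) (letter_near hx))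
      set u' := (θ₀ f)⁻¹ * u * θ₀ f with hu'
      have hu't : Commute u' t := by
        have := hub.map (MulAut.conj (θ₀ f)⁻¹)
        simp only [MulAut.conj_apply, inv_inv] at this
        rwa [show b = θ₀ f * t * (θ₀ f)⁻¹ by
            rw [hb, ← hbase, ← map_mul, ← map_inv, ← map_mul, hf]; rfl,
          show (θ₀ f)⁻¹ * (θ₀ f * t * (θ₀ f)⁻¹) * θ₀ f = t by group] at this
      by_cases hin : u' ∈ (θ₀.comp H23.subtype).range
      · obtain ⟨p, hp⟩ := hin
        set k : CM := up (f * p * f⁻¹)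
        have hku : th θ₀ k = u := by
          show θ₀ (FiFour.down k) = u
          rw [down_up, map_mul, map_mul, map_inv,
            show θ₀ (p : Fj) = u' from hp, hu']
          group
        have hkc : ∀ x ∈ FiFour.lamC, ∀ y ∈ FiFour.lamC, Commute k.1 (FiFour.im x * FiFour.im y) := by
          intro x hx y hy
          set g : CM := lt x (low x hx) * lt y (low y hy)
          have hgc : colour (⟨FiFour.im x, letter_fourL hx⟩ * ⟨FiFour.im y, letter_fourL hy⟩) = 1 := by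
            rw [map_mul, colour_letter hx, colour_letter hy, Equiv.swap_mul_self]
          have e := hu (th θ₀ g) ⟨g, mul_mem (letter_fourL hx) (letter_fourL hy), hgc, rfl⟩
          rw [← hku, ← map_mul, ← map_mul] at e
          have := lift_unique (k := g * k) (k' := k * g) (by simp only [coe_mul, map_mul]; rw [mul_comm]) (hinj e)
          exact (congrArg Subtype.val this).symm
        have hk1 : FiFour.chi k.1 = 1 := chi_up _
        rcases cent_letters (mem_CM.1 k.2) (fun x hx => comm_letters hkc hx) with e | e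
        · rw [← hku, show k = 1 from Subtype.ext e, map_one]
        · rw [e, ll_odd] at hk1
          exact absurd hk1 (by decide)
      · exfalso
        obtain ⟨yl, hyl, -, -, hxy, -, hne', -, -⟩ := partner_ok x hx
        have hlx : x < 12 := by have := (lamC_lt x hx).1; omega
        have hly : yl < 12 := by have := (lamC_lt yl hyl).1; omega
        set ky : CM := lt yl (low yl hyl)
        have hgc : colour (⟨FiFour.im x, letter_fourL hx⟩ * ⟨FiFour.im yl, letter_fourL hyl⟩) = 1 := by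
          rw [map_mul, colour_letter hx, colour_letter hyl, Equiv.swap_mul_self]
        have e := hu (th θ₀ (kx * ky)) ⟨kx * ky, mul_mem (letter_fourL hx) (letter_fourL hyl), hgc, rfl⟩
        have huy : Commute u (th θ₀ ky) := by
          have := (hub.mul_right (show Commute u (th θ₀ (kx * ky)) from e.symm))
          rwa [map_mul, ← mul_assoc, ← hb, hbb, one_mul] at this
        set q := f⁻¹ * FiFour.down ky * f with hq
        have hqP : q ∈ P0 := by
          refine ⟨by rw [hq]; simpa using ThreeTr.conj_mem h23.cls f⁻¹ (down_perp (v := ky) (letter_near hyl)),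
            fun e' => ?_, ?_⟩
          · have e2 : FiFour.down ky = z2 := by rw [← hf, ← e', hq]; group
            exact letter_ne hlx hly hne' (congrArg Subtype.val (perp_ext (v := ky) (w := kx) (letter_near hyl)
              (letter_near hx) e2)).symm
          · have hc : Commute kx ky := Subtype.ext (FiFour.good_im.comm hlx hly hxy)
            have := (hc.map FiFour.down).map (MulAut.conj f⁻¹)
            simp only [MulAut.conj_apply, inv_inv, ← hz2, ← hf] at this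
            rwa [show f⁻¹ * (f * zz * f⁻¹) * f = zz by group] at this
        have hn : (θ₀ f)⁻¹ * th θ₀ ky * θ₀ f ∈ NS (θ₀.comp H23.subtype) := by
          refine ⟨⟨q, P0_le hqP⟩, hqP, ?_⟩
          show θ₀ q = _
          rw [hq, map_mul, map_mul, map_inv]
          rfl
        refine hin (h.inner_of hu't hn ?_)
        have e3 : Commute u' ((θ₀ f)⁻¹ * th θ₀ ky * θ₀ f) := by
          have := huy.map (MulAut.conj (θ₀ f)⁻¹)
          simpa only [MulAut.conj_apply, inv_inv] using this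
        rw [e3.eq, mul_inv_cancel_right]
        exact hn
    let φ : W →* W := (((MulAut.conj b).toMonoidHom.comp W.subtype).codRestrict W fun a => by
      show b * a.1 * b⁻¹ ∈ W
      have := hWconj (s := kx) (letter_fourL hx) a.1 a.2
      rw [← hb, hbi] at this
      rwa [hbi])
    have hφ : ∀ a : W, (φ a).1 = b * a.1 * b⁻¹ := fun a => rfl
    have hfree : MonoidHom.FixedPointFree φ := fun a ha => Subtype.ext (hfix a.1 a.2 (by
      have e := congrArg Subtype.val ha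
      rw [hφ, mul_inv_eq_iff_eq_mul] at e
      exact e.symm))
    have hinv : Function.Involutive φ := fun a => Subtype.ext (by
      rw [hφ, hφ, show b * (b * a.1 * b⁻¹) * b⁻¹ = (b * b) * a.1 * (b * b)⁻¹ by group, hbb]
      group)
    intro u hu
    have := congrArg (fun F => (F ⟨u, hu⟩ : W).1) (hfree.coe_eq_inv_of_involutive hinv)
    simpa [hφ] using this
  refine ⟨y, ?_, ?_, fun k hk => ?_⟩
  · rw [hy, ← map_pow, ← map_one Φ9]
    refine congrArg Φ9 (Subtype.ext ?_)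
    show ((⟨_, kl_EC p9.2.2 k9⟩ : ↥(EC x9.1)) ^ 3 : ↥(EC x9.1)).1 = 1
    rw [SubmonoidClass.coe_pow]
    show (kk * ll) ^ 3 = 1
    have := pow_lab (x := 11) (y := 10) (by norm_num) (by norm_num)
    rwa [show FiFour.lab 11 10 = 3 by decide +kernel] at this
  · set k0 : CM := lt 0 (by norm_num)
    have hd : th θ₀ k0 = th θ₀ (k0 * ⟨ll, ll_CM⟩) := by
      rw [map_mul, show th θ₀ ⟨ll, ll_CM⟩ = 1 by show θ₀ _ = 1; rw [down_ll, map_one], mul_one]
    have hm : k0.1 * ll ∈ EC x9.1 := mem_EC.2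
      ⟨(show Commute k0.1 x9.1 from FiFour.good_im.comm (by norm_num) (by norm_num) lab_top.1).mul_left p9.2.2, by
        rw [map_mul, ll_odd, show FiFour.chi k0.1 = -1 from FiFour.chi_im (by norm_num)]; decide⟩
    rw [hd, show th θ₀ (k0 * ⟨ll, ll_CM⟩) = Φ9 ⟨_, hm⟩ from (hΦ9.agree ⟨_, hm⟩ (k0 * ⟨ll, ll_CM⟩).2).symm, hy,
      ← map_inv, ← map_mul, ← map_pow, ← map_one Φ9]
    refine congrArg Φ9 (Subtype.ext ?_)
    rw [SubmonoidClass.coe_pow]
    show (FiFour.im 0 * ll * (kk * ll)⁻¹) ^ 3 = 1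
    rw [show FiFour.im 0 * ll * (kk * ll)⁻¹ = FiFour.im 0 * kk⁻¹ by group,
      inv_eq_of_mul_eq_one_right (FiFour.im_sq 11)]
    have := pow_lab (x := 0) (y := 11) (by norm_num) (by norm_num)
    rwa [lab_top.2.1] at this
  · have hN : ∀ s ∈ fourL, ∀ x ∈ FiFour.lamC, s * FiFour.im x * s⁻¹ ∈ (Rel θ₀ y).map CM.subtype := by
      intro s hs x hx
      set sc : CM := ⟨s, FiTypes.fourL_le hs⟩
      refine ⟨sc * lt x (low x hx) * sc⁻¹, ?_, rfl⟩
      show sc * lt x (low x hx) * sc⁻¹ ∈ Rel θ₀ y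
      have e := hinvW x hx _ (hWconj (s := sc) hs y hyW)
      rw [mem_Rel, show FiFour.chi ((sc * lt x (low x hx) * sc⁻¹ : CM) : Fk) = -1 by
          rw [coe_mul, coe_mul, coe_inv, chi_conj]
          exact FiFour.chi_im (by have := (lamC_lt x hx).1; omega),
        sgn, if_neg (by decide), map_mul, map_mul, map_inv]
      calc th θ₀ sc * th θ₀ (lt x (low x hx)) * (th θ₀ sc)⁻¹ * y *
            (th θ₀ sc * th θ₀ (lt x (low x hx)) * (th θ₀ sc)⁻¹)⁻¹
          = th θ₀ sc * (th θ₀ (lt x (low x hx)) * ((th θ₀ sc)⁻¹ * y * th θ₀ sc) *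
              (th θ₀ (lt x (low x hx)))⁻¹) * (th θ₀ sc)⁻¹ := by group
        _ = y⁻¹ := by rw [e]; group
    obtain ⟨a, ha, e⟩ := fourL_gen _ hN (mem_fourL (mem_CM.1 k.2) hk)
    exact (Subtype.ext e : a = k) ▸ ha

end Cfsg.Lib.FiPrime
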