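import Cfsg.Agent.FiPrime.Frame
import Cfsg.Agent.M23Rec.Build
import Cfsg.Agent.ThreeTransposition.M22Hexad
import Cfsg.Prelude.Def_CaseTheorems

/-!
An involution of the double cover whose centraliser has no further abelian normal subgroup lifts a transposition.
-/

set_option autoImplicit false
set_option linter.unusedSectionVars false
set_option linter.style.haveILetI false
set_option maxRecDepth 20000
set_option maxHeartbeats 2000000

namespace Cfsg.Lib.FiPrime

open Subgroup Cfsg.Lib.ThreeTr Cfsg.Lib.CosetCert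
open Cfsg.Lib.M23Rec (Fj zz D0 P0 H23 h23 zz_mem zz_sq mem_H P0_le P0_conj finite_fj)
open scoped commutatorElement

attribute [local irreducible] FiTwenty.sig0 FiTwenty.sig1 FiTwenty.sig2 FiTwenty.sig3 FiTwenty.sig4 FiTwenty.sig5
  FiTwenty.sig6 FiTwenty.sig7 FiTwenty.sig8 FiTwenty.sig9 FiTwenty.sig10 FiTwenty.subPts FiTwenty.subIdx
  FiTwenty.subTree1Mask FiTwenty.subTree2Mask

universe u

/-- An abelian normal subgroup of a quasisimple group is central. -/
theorem abelian_normal_central {C : Type u} [Group C] (hq : Cfsg.IsQuasisimple C) (N : Subgroup C) [N.Normal]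
    (hN : ∀ a ∈ N, ∀ b ∈ N, Commute a b) : N ≤ center C := by
  haveI := hq.2
  rcases IsSimpleGroup.eq_bot_or_eq_top_of_normal (N.map (QuotientGroup.mk' (center C)))
    (Subgroup.Normal.map inferInstance _ (QuotientGroup.mk'_surjective _)) with h | h
  · rwa [Subgroup.map_eq_bot_iff, QuotientGroup.ker_mk'] at h
  · exfalso
    have dec : ∀ a : C, ∃ a' ∈ N, ∃ p, (∀ y, Commute p y) ∧ a = a' * p := fun a => by
      obtain ⟨w, hw, e⟩ : QuotientGroup.mk' (center C) a ∈ N.map (QuotientGroup.mk' (center C)) := h ▸ mem_top _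
      exact ⟨w, hw, w⁻¹ * a, fun y => (mem_center_iff.1 (QuotientGroup.eq.1 e) y).symm, by group⟩
    have hle : _root_.commutator C ≤ ⊥ := by
      rw [_root_.commutator_def, commutator_le]
      intro a _ b _
      obtain ⟨a', ha, p, hp, rfl⟩ := dec a
      obtain ⟨b', hb, q, hq', rfl⟩ := dec b
      rw [comm_shift hp hq', mem_bot, commutatorElement_eq_one_iff_mul_comm]
      exact hN a' ha b' hb
    have htop : _root_.commutator C = ⊤ := hq.1.1
    have hc : center C = ⊤ := eq_top_iff.2 fun x _ => by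
      have h1 : x = 1 := mem_bot.1 (hle (htop ▸ mem_top x))
      rw [h1]; exact one_mem _
    obtain ⟨a, b, hab⟩ := exists_pair_ne (C ⧸ center C)
    obtain ⟨a, rfl⟩ := QuotientGroup.mk_surjective a
    obtain ⟨b, rfl⟩ := QuotientGroup.mk_surjective b
    exact hab (QuotientGroup.eq.2 (hc ▸ mem_top _))

/-- The member has the image in the smaller class. -/
theorem down_P0 {p : H23} (hp : (p : Fj) ∈ P0) : FiTwenty.down p ∈ FiPres.transp := by
  haveI := finite_fj
  obtain ⟨c, hc, hcx⟩ := M23Rec.perp_lists (l := [FiTwenty.imZ 0]) (l' := [(p : Fj)])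
    ⟨List.nodup_singleton _, by simp [M23Rec.letter_P0.1], by simp⟩ ⟨List.nodup_singleton _, by simp [hp.1], by simp⟩
    (by simp [M23Rec.letter_P0]) (by simp [hp]) rfl (by simp)
  simp only [List.map_cons, List.map_nil, List.cons.injEq, and_true] at hcx
  have e : p = ⟨c, hc⟩ * ⟨_, P0_le M23Rec.letter_P0⟩ * (⟨c, hc⟩ : H23)⁻¹ := Subtype.ext hcx
  rw [e, map_mul, map_mul, map_inv]
  refine FiPres.mem_transp.2 ⟨FiTwenty.down ⟨c, hc⟩, ?_⟩
  rw [show FiTwenty.down (⟨_, P0_le M23Rec.letter_P0⟩ : H23) = FiPres.im10 0 from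
    FiTwenty.down_eq (FiTwenty.agrees_gen (by decide))]

/-- Members with commuting images commute. -/
theorem commute_of_down {p p' : H23} (hp : (p : Fj) ∈ P0) (hp' : (p' : Fj) ∈ P0)
    (hc : Commute (FiTwenty.down p) (FiTwenty.down p')) : Commute p p' := by
  haveI := finite_fj
  haveI := FiPres.finite_fi
  by_contra hn
  have h3 : (p * p') ^ 3 = 1 := Subtype.ext (by
    rw [SubmonoidClass.coe_pow, coe_mul]
    exact cube_of_not_commute h23.cls.1 hp.1 hp'.1 fun e => hn (Subtype.ext e.eq))
  have hp2 : ∀ {q : H23}, (q : Fj) ∈ P0 → q * q = 1 := fun hq => Subtype.ext (sq_eq_one h23.cls.1 hq.1)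
  have h3' := congrArg FiTwenty.down h3
  rw [map_pow, map_mul, map_one, hc.mul_pow, pow_three, pow_three, ← map_mul FiTwenty.down p p,
    ← map_mul FiTwenty.down p' p', hp2 hp, hp2 hp', map_one, mul_one, mul_one] at h3'
  have hk : FiTwenty.down (p * p') = 1 := by rw [map_mul, h3']
  refine hn ?_
  have hcz : p * p' ∈ center H23 := FiTwenty.center_eq.ge (MonoidHom.mem_ker.2 hk)
  have : Commute p (p * (p * p')) := (Commute.refl p).mul_right (mem_center_iff.1 hcz p)
  rwa [← mul_assoc, hp2 hp, one_mul] at this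

theorem swap_aux {a b : Cfsg.Spor.Fi22} (h : Commute a b) : Commute b a := h.symm

/-- The conjugates of a constituent of an involution by elements centralising it commute with it. -/
theorem orbit_commute {l : List H23} (hl : 2 ≤ l.length ∧ l.length ≤ 3) (hm : ∀ x ∈ l, (x : Fj) ∈ P0)
    (hn : l.Nodup) (hc : ∀ x ∈ l, ∀ y ∈ l, Commute x y) {h : H23} (hh : Commute (FiTwenty.down h) (FiTwenty.down l.prod))
    {p : H23} (hp : p ∈ l) : Commute (h * p * h⁻¹) p := by
  haveI := finite_fj
  haveI := FiPres.finite_fi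
  have hpm : (p : Fj) ∈ P0 := hm p hp
  refine commute_of_down (by rw [coe_mul, coe_mul, coe_inv]; exact P0_conj h.2 hpm) hpm ?_
  have h2 : M22 FiPres.transp := M22.mk' FiTypes.two_three_group FiTypes.two_primitive FiTypes.two_type
  set g := FiTwenty.down h
  set s := l.map FiTwenty.down with hs
  have hsD : ∀ x ∈ s, x ∈ FiPres.transp := fun x hx => by
    obtain ⟨y, hy, rfl⟩ := List.mem_map.1 hx
    exact down_P0 (hm y hy)
  have hsn : s.Nodup := hn.map_on fun x hx y hy e => by
    by_contra hne
    have hcen : x⁻¹ * y ∈ center H23 := FiTwenty.center_eq.ge (MonoidHom.mem_ker.2 (by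
      rw [map_mul, map_inv, e, inv_mul_cancel]))
    rcases M23Rec.center_cases fun w => (mem_center_iff.1 hcen w).symm with k | k
    · exact hne (inv_mul_eq_one.1 k)
    · rw [inv_mul_eq_iff_eq_mul] at k
      refine zz_mul_not (hm x hx) ?_
      rw [← (mem_H.1 x.2).eq, show (x : Fj) * zz = (y : Fj) by rw [k, coe_mul]; rfl]
      exact hm y hy
  have hsc : ∀ x ∈ s, ∀ y ∈ s, Commute x y := fun x hx y hy => by
    obtain ⟨x', hx', rfl⟩ := List.mem_map.1 hx
    obtain ⟨y', hy', rfl⟩ := List.mem_map.1 hy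
    exact (hc x' hx' y' hy').map _
  set s' := s.map (MulAut.conj g) with hs'
  have hs'D : ∀ x ∈ s', x ∈ FiPres.transp := fun x hx => by
    obtain ⟨y, hy, rfl⟩ := List.mem_map.1 hx
    exact ThreeTr.conj_mem h2.cls g (hsD y hy)
  have hs'n : s'.Nodup := hsn.map (MulAut.conj g).injective
  have hs'c : ∀ x ∈ s', ∀ y ∈ s', Commute x y := fun x hx y hy => by
    obtain ⟨x', hx', rfl⟩ := List.mem_map.1 hx
    obtain ⟨y', hy', rfl⟩ := List.mem_map.1 hy
    exact (hsc x' hx' y' hy').map (MulAut.conj g)
  have hlen : s'.length = s.length := by simp [hs']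
  have hprod : s'.prod = s.prod := by
    rw [hs', ← map_list_prod, MulAut.conj_apply, hs, ← map_list_prod, hh.eq, mul_inv_cancel_right]
  have hps : FiTwenty.down p ∈ s := List.mem_map_of_mem hp
  have hps' : FiTwenty.down (h * p * h⁻¹) ∈ s' := by
    rw [map_mul, map_mul, map_inv]
    exact List.mem_map_of_mem hps
  rcases (show l.length = 2 ∨ l.length = 3 by omega) with e | e
  · have hset := pair_unique h2.cls.1 h2.twin (l := s') (l' := s) (by rw [hlen, hs, List.length_map, e])
      (by rw [hs, List.length_map, e]) hs'n hsn hs'D hsD hs'c hsc hprod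
    exact hsc _ ((hset _).1 hps') _ hps
  · obtain ⟨a, b, c, habc⟩ := List.length_eq_three.1 (show s.length = 3 by rw [hs, List.length_map, e])
    rw [habc] at hsn hsD hsc hps hprod
    obtain ⟨⟨hab, hac⟩, hbc⟩ : (a ≠ b ∧ a ≠ c) ∧ b ≠ c := by simpa using hsn
    obtain ⟨u, v, w, hnd, hcomm, hmem, hp6, -⟩ := m22_hexad h2.cls FiTypes.two_primitive h2.twin FiTypes.two_type
      (hsD a (by simp)) (hsD b (by simp)) (hsD c (by simp)) hab hac hbc (hsc a (by simp) b (by simp))
      (hsc a (by simp) c (by simp)) (hsc b (by simp) c (by simp))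
    obtain ⟨l₁, l₂, -, -, -, hall⟩ := m22_triples h2.cls FiTypes.two_primitive h2.twin FiTypes.two_type
      (j := [a, b, c].prod) (l₀ := [a, b, c]) ⟨hsn, rfl, hsD, hsc, rfl⟩
    have hsub : ∀ {x}, x ∈ [u, v, w] → x ∈ [a, b, c, u, v, w] := fun {x} hx => by
      simp only [List.mem_cons, List.not_mem_nil, or_false] at hx ⊢; tauto
    have huvw : [u, v, w].prod = [a, b, c].prod := by
      have h1 : [a, b, c].prod * [u, v, w].prod = 1 := by rw [← hp6]; simp [mul_assoc]
      have hinv : [a, b, c].prod * [a, b, c].prod = 1 := by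
        have cab := hsc a (by simp) b (by simp)
        have cac := hsc a (by simp) c (by simp)
        have cbc := hsc b (by simp) c (by simp)
        simp only [List.prod_cons, List.prod_nil, mul_one]
        rw [(cab.mul_right cac).symm.mul_mul_mul_comm a (b * c), cbc.symm.mul_mul_mul_comm b c,
          sq_eq_one h2.cls.1 (hsD a (by simp)), sq_eq_one h2.cls.1 (hsD b (by simp)),
          sq_eq_one h2.cls.1 (hsD c (by simp)), one_mul, one_mul]
      exact (eq_inv_of_mul_eq_one_right h1).trans (inv_eq_of_mul_eq_one_right hinv)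
    have k₀ := hall [a, b, c] ⟨hsn, rfl, hsD, hsc, rfl⟩
    have k₁ := hall [u, v, w] ⟨hnd.sublist (List.sublist_append_right [a, b, c] [u, v, w]), rfl,
      fun x hx => hmem x (hsub hx), fun x hx y hy => hcomm x (hsub hx) y (hsub hy), huvw⟩
    have k₂ := hall s' ⟨hs'n, by rw [hlen, habc]; rfl, hs'D, hs'c, hprod⟩
    have hdiff : ¬ ∀ x, x ∈ [u, v, w] ↔ x ∈ [a, b, c] := fun k => by
      have := (k u).1 (by simp)
      simp only [List.nodup_cons, List.mem_cons, List.not_mem_nil, or_false, not_or] at hnd this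
      obtain ⟨⟨-, -, x1, -⟩, ⟨-, x2, -⟩, ⟨x3, -⟩, -⟩ := hnd
      rcases this with rfl | rfl | rfl <;> simp_all
    have hin : FiTwenty.down (h * p * h⁻¹) ∈ [a, b, c, u, v, w] := by
      rcases k₀ with k₀ | k₀ <;> rcases k₁ with k₁ | k₁ <;> rcases k₂ with k₂ | k₂
      all_goals
        first
          | exact absurd (fun x => (k₁ x).trans (k₀ x).symm) hdiff
          | (have := (k₀ _).2 ((k₂ _).1 hps'); simp only [List.mem_cons, List.not_mem_nil, or_false] at this ⊢; tauto)
          | exact hsub ((k₁ _).2 ((k₂ _).1 hps'))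
    exact hcomm _ hin _ (by simp only [List.mem_cons, List.not_mem_nil, or_false] at hps ⊢; tauto)

/-- A centraliser that is quasisimple with centre of order four singles out the lifts of transpositions. -/
theorem lift_cases {b : H23} (hb2 : b * b = 1) (hb1 : b ≠ 1) (hbz : b ≠ FiTwenty.zH)
    (hq : Cfsg.IsQuasisimple ↥(centralizer ({b} : Set H23)))
    (hZ : ∀ x : ↥(centralizer ({b} : Set H23)), x ∈ center ↥(centralizer ({b} : Set H23)) →
      (x : H23) = 1 ∨ (x : H23) = FiTwenty.zH ∨ (x : H23) = b ∨ (x : H23) = FiTwenty.zH * b) :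
    (b : Fj) ∈ P0 ∨ ((FiTwenty.zH * b : H23) : Fj) ∈ P0 := by
  haveI := finite_fj
  obtain ⟨l, hl, hlP, hl1, hl3, hform⟩ := M23Rec.invol_form b.2 (congrArg Subtype.val hb2)
    (fun e => hb1 (Subtype.ext e)) fun e => hbz (Subtype.ext e)
  rcases Nat.lt_or_ge l.length 2 with e | e
  · obtain ⟨a, rfl⟩ := List.length_eq_one_iff.1 (show l.length = 1 by omega)
    rcases hform with e' | e'
    · exact Or.inl (by rw [e', List.prod_singleton]; exact hlP a (by simp))
    · refine Or.inr ?_
      rw [coe_mul, e', List.prod_singleton, ← mul_assoc]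
      show zz * zz * a ∈ P0
      rw [zz_sq, one_mul]
      exact hlP a (by simp)
  exfalso
  set lh : List H23 := l.attach.map fun x => ⟨x.1, P0_le (hlP x.1 x.2)⟩ with hlh
  have hval : lh.map Subtype.val = l := by simp [hlh, List.map_map, Function.comp_def]
  have hlen : lh.length = l.length := by simp [hlh]
  have hm : ∀ x ∈ lh, (x : Fj) ∈ P0 := fun x hx => hlP _ (hval ▸ List.mem_map_of_mem hx)
  have hn : lh.Nodup := List.Nodup.of_map Subtype.val (hval ▸ hl.nodup)
  have hc : ∀ x ∈ lh, ∀ y ∈ lh, Commute x y := fun x hx y hy => Subtype.ext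
    (hl.comm _ (hval ▸ List.mem_map_of_mem hx) _ (hval ▸ List.mem_map_of_mem hy)).eq
  have hzc : ∀ x : H23, Commute FiTwenty.zH x := fun x => Subtype.ext (mem_H.1 x.2).eq.symm
  have hb : b = lh.prod ∨ b = FiTwenty.zH * lh.prod := by
    refine hform.imp (fun e' => Subtype.ext ?_) fun e' => Subtype.ext ?_
    · rw [SubmonoidClass.coe_list_prod, hval, e']
    · rw [coe_mul, SubmonoidClass.coe_list_prod, hval, e']; rfl
  obtain ⟨p, hp⟩ := List.exists_mem_of_length_pos (show 0 < lh.length by omega)
  have hpm := hm p hp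
  have hdb : FiTwenty.down b = FiTwenty.down lh.prod := by
    rcases hb with e' | e' <;> rw [e']
    rw [map_mul, FiTwenty.down_z, one_mul]
  have hpC : p ∈ centralizer ({b} : Set H23) := by
    refine mem_centralizer_singleton_iff.2 ?_
    have hpl : Commute p lh.prod := Commute.list_prod_right _ _ fun y hy => hc p hp y hy
    rcases hb with e' | e' <;> rw [e']
    exacts [hpl.eq, ((hzc p).symm.mul_right hpl).eq]
  let P : ↥(centralizer ({b} : Set H23)) := ⟨p, hpC⟩
  set N := Subgroup.normalClosure ({P} : Set ↥(centralizer ({b} : Set H23)))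
  have horb : ∀ g : ↥(centralizer ({b} : Set H23)), Commute (g * P * g⁻¹) P := fun g => by
    refine Subtype.ext ?_
    exact (orbit_commute ⟨by omega, by omega⟩ hm hn hc (hdb ▸
      (show Commute (g : H23) b from mem_centralizer_singleton_iff.1 g.2).map FiTwenty.down) hp).eq
  have hN : ∀ x ∈ N, ∀ y ∈ N, Commute x y := by
    have hcl : N ≤ centralizer (Group.conjugatesOfSet ({P} : Set ↥(centralizer ({b} : Set H23)))) := by
      refine (closure_le _).2 fun x hx => ?_
      rw [SetLike.mem_coe, mem_centralizer_iff]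
      intro y hy
      simp only [Group.conjugatesOfSet, Set.mem_iUnion, Set.mem_singleton_iff, exists_prop, exists_eq_left] at hx hy
      obtain ⟨g, rfl⟩ := isConj_iff.1 hx
      obtain ⟨k, rfl⟩ := isConj_iff.1 hy
      have := (horb (g⁻¹ * k)).map (MulAut.conj g)
      simp only [MulAut.conj_apply] at this
      rw [show g * (g⁻¹ * k * P * (g⁻¹ * k)⁻¹) * g⁻¹ = k * P * k⁻¹ by group] at this
      exact this.eq
    intro x hx y hy
    have hle : N ≤ centralizer ({x} : Set ↥(centralizer ({b} : Set H23))) := (closure_le _).2 fun c hc' => by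
      rw [SetLike.mem_coe, mem_centralizer_singleton_iff]
      exact mem_centralizer_iff.1 (hcl hx) c hc'
    exact (mem_centralizer_singleton_iff.1 (hle hy)).symm
  have hPc := abelian_normal_central hq N hN (subset_normalClosure (Set.mem_singleton _))
  rcases hZ P hPc with e' | e' | e' | e'
  · have : (p : Fj) = 1 := congrArg Subtype.val e'
    have h1 := h23.cls.1.1 (p : Fj) hpm.1
    rw [this, orderOf_one] at h1
    norm_num at h1
  · exact hpm.2.1 (congrArg Subtype.val e')
  all_goals
    have hd : FiTwenty.down p = FiTwenty.down lh.prod := by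
      rw [show p = (P : H23) from rfl, e']
      first | exact hdb | rw [map_mul, FiTwenty.down_z, one_mul, hdb]
    have hcen : p⁻¹ * lh.prod ∈ center H23 := FiTwenty.center_eq.ge (MonoidHom.mem_ker.2 (by
      rw [map_mul, map_inv, hd, inv_mul_cancel]))
    rcases M23Rec.center_cases fun w => (mem_center_iff.1 hcen w).symm with k | k
    · have hk : (p : Fj) = l.prod := by
        rw [inv_mul_eq_one.1 k, SubmonoidClass.coe_list_prod, hval]
      have := h23.length_unique (l := l) (l' := [(p : Fj)]) hl ⟨List.nodup_singleton _, by simp [hpm.1], by simp⟩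
      simp_all
    · have hk : zz * (p : Fj) = l.prod := by
        rw [inv_mul_eq_iff_eq_mul] at k
        rw [← hval, ← SubmonoidClass.coe_list_prod, k, coe_mul, ← (mem_H.1 p.2).eq]
        rfl
      have hl' : CList D0 [zz, (p : Fj)] := ⟨by simpa using fun e'' => hpm.2.1 e''.symm,
        by simp [hpm.1, zz_mem], fun u hu v hv => by
          simp only [List.mem_cons, List.not_mem_nil, or_false] at hu hv
          rcases hu with rfl | rfl <;> rcases hv with rfl | rfl <;>
            first | exact Commute.refl _ | exact hpm.2.2 | exact hpm.2.2.symm⟩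
      have hk' : l.prod = [zz, (p : Fj)].prod := by simp [hk]
      have h2 : l.length = 2 := h23.length_unique hl hl' hl1 hl3 (by simp) (by simp) hk'
      have := (pair_unique h23.cls.1 h23.twin h2 rfl hl.nodup hl'.nodup hl.mem hl'.mem hl.comm hl'.comm hk' zz).2
        (by simp)
      exact (hlP zz this).2.1 rfl

end Cfsg.Lib.FiPrime
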