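import Cfsg.Agent.FiPrime.Last
import Cfsg.Agent.FiPrime.Model

/-!
The group carries a copy of the simple group of the model extending the given copy of the smaller one: the model acts
on two sheets over the group, compatibly with right translations.
-/

set_option autoImplicit false
set_option linter.unusedSectionVars false
set_option linter.style.haveILetI false
set_option maxRecDepth 100000

namespace Cfsg.Lib.FiPrime

open Subgroup Cfsg.Lib.ThreeTr Cfsg.Lib.CosetCert
open Cfsg.Lib.M23Rec (Fj zz D0 P0 H23 h23 finite_fj)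
open Cfsg.Lib.M24Rec (Fk E0 ll kk CM h24 finite_fk ll_mem ll_sq mem_CM ll_CM down_ll down_perp perp_chi lo lo_val lt)

attribute [local irreducible] FiFour.rowF FiFour.sevF FiFour.lonF FiFour.blkMask
attribute [local irreducible] FiTwenty.sig0 FiTwenty.sig1 FiTwenty.sig2 FiTwenty.sig3 FiTwenty.sig4 FiTwenty.sig5
  FiTwenty.sig6 FiTwenty.sig7 FiTwenty.sig8 FiTwenty.sig9 FiTwenty.sig10 FiTwenty.subPts FiTwenty.subIdx
  FiTwenty.subTree1Mask FiTwenty.subTree2Mask

universe u

variable {G : Type u} [Group G]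

/-- A translation on two sheets over a group, exchanging them or not. -/
def sheet (u : ℤˣ) (g : G) : Equiv.Perm (G × Bool) :=
  (Equiv.mulLeft g).prodCongr (if u = 1 then Equiv.refl Bool else Equiv.boolNot)

theorem sheet_apply (u : ℤˣ) (g a : G) (s : Bool) :
    sheet u g (a, s) = (g * a, if u = 1 then s else !s) := by
  by_cases h : u = 1 <;> simp [sheet, h]

theorem sheet_mul (u v : ℤˣ) (g k : G) : sheet u g * sheet v k = sheet (u * v) (g * k) := by
  refine Equiv.ext fun ⟨a, s⟩ => ?_
  rw [Equiv.Perm.mul_apply, sheet_apply, sheet_apply, sheet_apply, mul_assoc]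
  rcases Int.units_eq_one_or u with rfl | rfl <;> rcases Int.units_eq_one_or v with rfl | rfl <;> cases s <;> simp

theorem sheet_one : sheet (1 : ℤˣ) (1 : G) = 1 := by
  refine Equiv.ext fun ⟨a, s⟩ => ?_
  simp [sheet_apply]

/-- The centraliser of the distinguished member on the two sheets. -/
noncomputable def sheetHom (θ₀ : Fj →* G) : CM →* Equiv.Perm (G × Bool) where
  toFun k := sheet (FiFour.chi k.1) (th θ₀ k)
  map_one' := by simp [sheet_one]
  map_mul' a b := by rw [sheet_mul, map_mul, coe_mul, map_mul]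

/-- The last letter on the two sheets. -/
def sheetC (y : G) : Equiv.Perm (G × Bool) where
  toFun p := if p.2 then (y⁻¹ * p.1, false) else (y * p.1, true)
  invFun p := if p.2 then (y⁻¹ * p.1, false) else (y * p.1, true)
  left_inv p := by obtain ⟨a, s⟩ := p; cases s <;> simp
  right_inv p := by obtain ⟨a, s⟩ := p; cases s <;> simp

theorem sheetC_apply (y a : G) : sheetC y (a, false) = (y * a, true) ∧ sheetC y (a, true) = (y⁻¹ * a, false) :=
  ⟨rfl, rfl⟩

theorem cube_sheet {a y : G} (e1 : (a * y) ^ 3 = 1) (e2 : (a * y⁻¹) ^ 3 = 1) :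
    (sheet (-1 : ℤˣ) a * sheetC y) ^ 3 = 1 := by
  rw [pow_three] at e1 e2 ⊢
  refine Equiv.ext fun ⟨b, s⟩ => ?_
  have hne : ¬ (-1 : ℤˣ) = 1 := by decide
  cases s <;>
    simp only [Equiv.Perm.mul_apply, sheet_apply, sheetC_apply, if_neg hne, Bool.not_true, Bool.not_false,
      Equiv.Perm.one_apply] <;>
    refine Prod.ext ?_ rfl
  · show a * (y * (a * (y * (a * (y * b))))) = b
    rw [show a * (y * (a * (y * (a * (y * b))))) = a * y * (a * y * (a * y)) * b by group, e1, one_mul]
  · show a * (y⁻¹ * (a * (y⁻¹ * (a * (y⁻¹ * b))))) = b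
    rw [show a * (y⁻¹ * (a * (y⁻¹ * (a * (y⁻¹ * b))))) = a * y⁻¹ * (a * y⁻¹ * (a * y⁻¹)) * b by group, e2, one_mul]

variable [Finite G] {t : G} {θ₀ : Fj →* G} (hinj : Function.Injective θ₀)
  (hbase : θ₀ zz = t) (h : Frames t (θ₀.comp H23.subtype))
include hinj hbase h

/-- A map of the simple group of the model extending the given one. -/
theorem exists_even : ∃ ψ : ↥FiFour.evenPart →* G, Function.Injective ψ ∧
    ∀ (k : CM) (hk : FiFour.chi k.1 = 1), ψ ⟨k.1, hk⟩ = th θ₀ k := by
  haveI := finite_fk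
  haveI := finite_fj
  obtain ⟨y, hy3, h0, hrel⟩ := exists_last hinj hbase h
  set c := sheetC y with hc
  set θ := sheetHom θ₀
  have hθ : ∀ k : CM, θ k = sheet (FiFour.chi k.1) (th θ₀ k) := fun k => rfl
  have hth : th θ₀ ⟨ll, ll_CM⟩ = 1 := by show θ₀ _ = 1; rw [down_ll, map_one]
  have hy3' : y⁻¹ ^ 3 = 1 := by rw [inv_pow, hy3, inv_one]
  have hne : θ (lo 1 * ⟨ll, ll_CM⟩) ≠ 1 := fun e => by
    have e1 := congrArg (fun p : Equiv.Perm (G × Bool) => (p (1, false)).1) e
    simp only [hθ, sheet_apply, Equiv.Perm.one_apply, mul_one, map_mul, hth] at e1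
    have e2 : FiFour.down (lo 1) = 1 := hinj (e1.trans (map_one θ₀).symm)
    have hp : (lo 1).1 ∈ perp E0 ll := by rw [lo_val (by norm_num)]; exact FiFour.letter_perp (by norm_num)
    have := h23.cls.1.1 _ (down_perp hp)
    rw [e2, orderOf_one] at this
    norm_num at this
  obtain ⟨F, hFi, hF, hFc⟩ := extend_model θ c (by
      refine Equiv.ext fun ⟨a, s⟩ => ?_
      cases s <;> simp [hc, Equiv.Perm.mul_apply, sheetC_apply]) (by
      rw [hθ, hth, show FiFour.chi ((⟨ll, ll_CM⟩ : CM) : Fk) = -1 from ll_odd]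
      exact cube_sheet (by rw [one_mul, hy3]) (by rw [one_mul, hy3'])) (by
      rw [hθ, show FiFour.chi (lt 0 (by norm_num) : CM).1 = -1 from FiFour.chi_im (by norm_num)]
      refine cube_sheet ?_ h0
      set a := th θ₀ (lt 0 (by norm_num))
      have haa : a * a = 1 := by
        rw [← map_mul, show lt 0 (by norm_num) * lt 0 (by norm_num) = (1 : CM) from Subtype.ext (FiFour.im_sq 0),
          map_one]
      have hai : a⁻¹ = a := inv_eq_of_mul_eq_one_right haa
      have e1 : (y * a) ^ 3 = 1 := by
        rw [show y * a = (a * y⁻¹)⁻¹ by rw [mul_inv_rev, inv_inv, hai], inv_pow, h0, inv_one]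
      rw [show a * y = a * (y * a) * a⁻¹ by group, conj_pow, e1, mul_one, mul_inv_cancel]) (fun g hg => by
      have e := mem_Rel.1 (hrel g hg)
      rw [mul_inv_eq_iff_eq_mul] at e
      rw [hθ]
      refine Equiv.ext fun ⟨a, s⟩ => ?_
      rcases Int.units_eq_one_or (FiFour.chi g.1) with eg | eg <;> rw [eg] at e ⊢
      · rw [sgn, if_pos rfl] at e
        have e' : th θ₀ g * y⁻¹ = y⁻¹ * th θ₀ g := ((show Commute (th θ₀ g) y from e).inv_right).eq
        cases s <;> simp only [Equiv.Perm.mul_apply, sheet_apply, sheetC_apply, hc, if_true] <;>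
          simp only [← mul_assoc, e, e']
      · rw [sgn, if_neg (by decide)] at e
        have hne' : ¬ (-1 : ℤˣ) = 1 := by decide
        have e' : th θ₀ g * y⁻¹ = y * th θ₀ g := by
          calc th θ₀ g * y⁻¹ = y * (y⁻¹ * th θ₀ g) * y⁻¹ := by group
            _ = y * (th θ₀ g * y) * y⁻¹ := by rw [e]
            _ = y * th θ₀ g := by group
        cases s <;> simp only [Equiv.Perm.mul_apply, sheet_apply, sheetC_apply, hc, if_neg hne', Bool.not_true,
          Bool.not_false] <;> simp only [← mul_assoc, e, e']) hne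
  -- every element of the model commutes with the translations on the right
  let T : Subgroup Fk :=
    { carrier := {n | ∀ a s, F n (a, s) = ((F n (1, s)).1 * a, if FiFour.chi n = 1 then s else !s)}
      one_mem' := by intro a s; simp
      mul_mem' := by
        intro m n hm hn a s
        simp only [map_mul, Equiv.Perm.mul_apply]
        rw [hn a s, hm, hn 1 s, hm ((F n (1, s)).1 * 1)]
        rcases Int.units_eq_one_or (FiFour.chi m) with em | em <;>
          rcases Int.units_eq_one_or (FiFour.chi n) with en | en <;>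
          cases s <;> simp [em, en, mul_assoc]
      inv_mem' := by
        intro n hn a s
        have e : ∀ b r, F n⁻¹ ((F n (1, r)).1 * b, if FiFour.chi n = 1 then r else !r) = (b, r) := fun b r => by
          rw [← hn b r, map_inv]
          exact Equiv.symm_apply_apply _ _
        rcases Int.units_eq_one_or (FiFour.chi n) with en | en
        · have e1 := e ((F n (1, s)).1⁻¹ * a) s
          have e2 := e (F n (1, s)).1⁻¹ s
          simp only [en, if_pos, mul_inv_cancel_left, mul_inv_cancel] at e1 e2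
          rw [e1, e2]
          simp [en]
        · have e1 := e ((F n (1, !s)).1⁻¹ * a) (!s)
          have e2 := e (F n (1, !s)).1⁻¹ (!s)
          simp only [en, if_neg (show ¬ (-1 : ℤˣ) = 1 by decide), mul_inv_cancel_left, mul_inv_cancel,
            Bool.not_not] at e1 e2
          rw [e1, e2]
          simp [en] }
  have hT : ∀ n, n ∈ T := by
    intro n
    have hC : ∀ k : CM, k.1 ∈ T := fun k a s => by
      rw [hF, hθ, sheet_apply, sheet_apply, mul_one]
    have hK : kk ∈ T := fun a s => by
      rw [hFc, show FiFour.chi kk = -1 from kk_odd, if_neg (by decide)]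
      cases s <;> simp [hc, sheetC_apply]
    have : (⊤ : Subgroup Fk) ≤ T := by
      rw [← FiFour.closure_im]
      refine (closure_le _).2 ?_
      rintro _ ⟨x, hx, rfl⟩
      rcases (show x < 11 ∨ x = 11 by have : x < 12 := hx; omega) with hx | rfl
      · exact hC ⟨FiFour.im x, lgp_mem FiFour.im (FiFour.eleven_val hx)⟩
      · exact hK
    exact this (mem_top n)
  let ψ : ↥FiFour.evenPart →* G := MonoidHom.mk' (fun n => (F n.1 (1, false)).1) fun m n => by
    show (F (m.1 * n.1) (1, false)).1 = _
    rw [map_mul, Equiv.Perm.mul_apply, show F n.1 (1, false) = ((F n.1 (1, false)).1, false) by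
      conv_lhs => rw [hT n.1 1 false]
      simp [MonoidHom.mem_ker.1 n.2], hT m.1 (F n.1 (1, false)).1 false]
  have hψ : ∀ (k : CM) (hk : FiFour.chi k.1 = 1), ψ ⟨k.1, hk⟩ = th θ₀ k := fun k hk => by
    show (F k.1 (1, false)).1 = _
    rw [hF, hθ, sheet_apply, mul_one]
  refine ⟨ψ, ?_, hψ⟩
  haveI := FiFour.simple_even
  refine (MonoidHom.ker_eq_bot_iff ψ).1 ((Subgroup.Normal.eq_bot_or_eq_top ψ.normal_ker).resolve_right fun e => hne ?_)
  set k : CM := lo 1 * ⟨ll, ll_CM⟩
  have hk : FiFour.chi k.1 = 1 := by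
    rw [coe_mul, map_mul, lo_val (by norm_num), FiFour.chi_im (by norm_num), ll_odd]; decide
  have e1 : (⟨k.1, hk⟩ : FiFour.evenPart) ∈ ψ.ker := e ▸ mem_top _
  rw [MonoidHom.mem_ker, hψ] at e1
  rw [hθ, hk, e1, sheet_one]

end Cfsg.Lib.FiPrime
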