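import Cfsg.Agent.FiPrime.Duad
import Cfsg.Agent.FiPrime.Sheet

/-!
The copy of the simple group of the model is the whole group: it contains the centraliser of both kinds of involution.
-/

set_option autoImplicit false
set_option linter.unusedSectionVars false
set_option linter.style.haveILetI false
set_option maxRecDepth 100000

namespace Cfsg.Lib.FiPrime

open Subgroup Cfsg.Lib.ThreeTr Cfsg.Lib.CosetCert
open Cfsg.Lib.M23Rec (Fj zz D0 H23 zz_mem finite_fj)
open Cfsg.Lib.M24Rec (Fk E0 ll CM h24 finite_fk ll_mem ll_sq mem_CM ll_CM down_ll perp_chi exists_perp)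
open scoped commutatorElement

attribute [local irreducible] FiFour.rowF FiFour.sevF FiFour.lonF FiFour.blkMask
attribute [local irreducible] FiTwenty.sig0 FiTwenty.sig1 FiTwenty.sig2 FiTwenty.sig3 FiTwenty.sig4 FiTwenty.sig5
  FiTwenty.sig6 FiTwenty.sig7 FiTwenty.sig8 FiTwenty.sig9 FiTwenty.sig10 FiTwenty.subPts FiTwenty.subIdx
  FiTwenty.subTree1Mask FiTwenty.subTree2Mask

universe u

/-- An even involution of the model is a product of two or of four commuting members. -/
theorem even_invol {n : Fk} (hn : n ∈ FiFour.evenPart) (h2 : orderOf n = 2) :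
    ∃ l : List Fk, CList E0 l ∧ (l.length = 2 ∨ l.length = 4) ∧ l.prod = n := by
  haveI := finite_fk
  obtain ⟨l, hl, h1, h4, rfl⟩ := h24.invForm n h2
  refine ⟨l, hl, ?_, rfl⟩
  have e := h24.sign_prod hl.mem (χ := FiFour.chi) fun a ha => FiFour.chi_transp ha
  rw [show FiFour.chi l.prod = 1 from MonoidHom.mem_ker.1 hn] at e
  rcases (show l.length = 1 ∨ l.length = 2 ∨ l.length = 3 ∨ l.length = 4 by omega) with k | k | k | k <;>
    rw [k] at e
  exacts [absurd e (by decide), Or.inl k, absurd e (by decide), Or.inr k]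

/-- Products of equally many commuting members are conjugate in the even part. -/
theorem even_conj {l l' : List Fk} (hl : CList E0 l) (hl' : CList E0 l') (e : l.length = l'.length)
    (h4 : l.length ≤ 4) (h1 : 1 ≤ l.length) : ∃ g ∈ FiFour.evenPart, g * l.prod * g⁻¹ = l'.prod := by
  haveI := finite_fk
  obtain ⟨g, hg⟩ := h24.listTrans l l' hl hl' e h4
  have hp : g * l.prod * g⁻¹ = l'.prod := by rw [hg, conj_list_prod]
  rcases Int.units_eq_one_or (FiFour.chi g) with k | k
  · exact ⟨g, MonoidHom.mem_ker.2 k, hp⟩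
  · obtain ⟨a, ha⟩ := List.exists_mem_of_length_pos (show 0 < l'.length by omega)
    have hc : Commute a l'.prod := Commute.list_prod_right _ _ fun b hb => hl'.comm a ha b hb
    refine ⟨a * g, MonoidHom.mem_ker.2 (by rw [map_mul, k, FiFour.chi_transp (hl'.mem a ha)]; decide), ?_⟩
    rw [show a * g * l.prod * (a * g)⁻¹ = a * (g * l.prod * g⁻¹) * a⁻¹ by group, hp, hc.eq, mul_inv_cancel_right]

variable {G : Type u} [Group G] [Finite G]

/-- A group of large Fischer type is isomorphic to the simple group of the model. -/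
theorem exists_iso {z : G} {Q : Subgroup (centralizer ({z} : Set G))} [Q.Normal]
    (hCore : Cfsg.Lib.USixType.CoreGoal.{u}) (hF : Cfsg.IsOfLargeFischerTypeAt z Q) :
    Nonempty (G ≃* ↥FiFour.evenPart) := by
  haveI := finite_fk
  haveI := finite_fj
  obtain ⟨t, ι₀, h₀, hzt, q₀, hq₀⟩ := exists_frames hCore hF
  obtain ⟨θ₀, hinj, hbase, h⟩ := h₀.exists_ten
  obtain ⟨ψ, hψi, hψ⟩ := exists_even hinj hbase h
  set M := ψ.range with hM
  -- the first copy and the centraliser of the involution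
  obtain ⟨x, hx, hxd⟩ := exists_perp zz_mem
  have hin : ∀ w, θ₀ w ∈ M := fun w => ⟨⟨(up w).1, chi_up w⟩, by
    rw [hψ]; show θ₀ _ = _; rw [down_up]⟩
  obtain ⟨r, hr, r1, r2⟩ : ∃ r ∈ FiFour.evenPart, r * ll * r⁻¹ = x.1 ∧ r * x.1 * r⁻¹ = ll := by
    obtain ⟨χ, hχ⟩ := h24.exists_sign
    obtain ⟨r, -, e1, e2⟩ := h24.exists_exchange hχ ll_mem hx
    rcases Int.units_eq_one_or (FiFour.chi r) with k | k
    · exact ⟨r, MonoidHom.mem_ker.2 k, e1, e2⟩
    · refine ⟨r * ll, MonoidHom.mem_ker.2 (by rw [map_mul, k, ll_odd]; decide), ?_, ?_⟩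
      · rw [show r * ll * ll * (r * ll)⁻¹ = r * ll * r⁻¹ by group, e1]
      · rw [show r * ll * x.1 * (r * ll)⁻¹ = r * (ll * x.1 * ll⁻¹) * r⁻¹ by group, hx.2.2.eq,
          mul_inv_cancel_right, e2]
  have ht : t = ψ ⟨(up zz).1, chi_up zz⟩ := by
    rw [hψ]; show t = θ₀ _; rw [down_up, hbase]
  have hup : (up zz).1 = x.1 * ll := by rw [← hxd]; exact up_member hx
  obtain ⟨o, ho, hoM, hor⟩ : ∃ o, Commute o t ∧ o ∈ M ∧ o ∉ (θ₀.comp H23.subtype).range := by
    refine ⟨ψ ⟨r, hr⟩, ?_, ⟨_, rfl⟩, ?_⟩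
    · rw [ht]
      refine (show Commute (⟨r, hr⟩ : FiFour.evenPart) ⟨(up zz).1, chi_up zz⟩ from Subtype.ext ?_).map ψ
      show r * (up zz).1 = (up zz).1 * r
      rw [hup]
      calc r * (x.1 * ll) = (r * x.1 * r⁻¹) * (r * ll * r⁻¹) * r := by group
        _ = x.1 * ll * r := by rw [r1, r2, hx.2.2.eq]
    · rintro ⟨p, hp⟩
      have e : (⟨(up (p : Fj)).1, chi_up _⟩ : FiFour.evenPart) = ⟨r, hr⟩ := hψi (by
        rw [hψ, ← hp]; show θ₀ _ = θ₀ _; rw [down_up]; rfl)
      have hc : Commute r ll := by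
        rw [← show (up (p : Fj)).1 = r from congrArg Subtype.val e]
        exact mem_CM.1 (up (p : Fj)).2
      exact hx.2.1 (by rw [← r1, hc.eq, mul_inv_cancel_right])
  have hCt : ∀ g, Commute g t → g ∈ M := by
    intro g hg
    by_cases hgr : g ∈ (θ₀.comp H23.subtype).range
    · obtain ⟨p, rfl⟩ := hgr; exact hin _
    · obtain ⟨p, hp⟩ := h.two g o hg ho hgr hor
      exact (mul_mem_cancel_right hoM).1 (hp ▸ hin _)
  -- two classes of involutions
  have hz2 : orderOf z = 2 := hF.1.1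
  obtain ⟨c, -, -, -, -, -, -⟩ := Cfsg.Lib.LargeFischer.Ctx.exists_four_placed hF
  have hzq : z * z = 1 := by rw [← pow_two, ← hz2, pow_orderOf_eq_one]
  have htz : Commute t z := by
    rw [← hq₀]
    exact mem_centralizer_singleton_iff.1 (q₀ : ↥(centralizer ({z} : Set G))).2
  have hzM : z ∈ M := hCt z htz.symm
  have ht2 : t * t = 1 := h.sq
  have hzne : z ≠ 1 := fun e => by rw [e, orderOf_one] at hz2; norm_num at hz2
  have htne : t ≠ 1 := fun e => by
    rw [← hbase] at e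
    have := Cfsg.Lib.M23Rec.h23.cls.1.1 zz zz_mem
    rw [hinj (e.trans (map_one θ₀).symm), orderOf_one] at this
    norm_num at this
  have key : ∀ s ∈ M, s * s = 1 → s ≠ 1 → (∃ m ∈ M, m * t * m⁻¹ = s) ∨ ∃ m ∈ M, m * z * m⁻¹ = s := by
    rintro s ⟨n, rfl⟩ hs hs1
    obtain ⟨n₂, hn₂⟩ := hzM
    have ord : ∀ w : FiFour.evenPart, ψ w * ψ w = 1 → ψ w ≠ 1 → orderOf (w : Fk) = 2 := fun w a b =>
      orderOf_eq_prime (p := 2) (congrArg Subtype.val (hψi (by rw [map_one, pow_two, map_mul, a]) :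
        w ^ 2 = 1) |> fun e => by simpa using e) fun e => b (by
          rw [show w = 1 from Subtype.ext e, map_one])
    obtain ⟨l, hl, hlen, hlp⟩ := even_invol n.2 (ord n hs hs1)
    obtain ⟨lz, hlz, hzlen, hzp⟩ := even_invol n₂.2 (ord n₂ (hn₂ ▸ hzq) (hn₂ ▸ hzne))
    have hl0 : CList E0 [x.1, ll] := ⟨by simpa using hx.2.1, by simp [hx.1, ll_mem], by
      intro a ha b hb
      simp only [List.mem_cons, List.not_mem_nil, or_false] at ha hb
      rcases ha with rfl | rfl <;> rcases hb with rfl | rfl <;>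
        first | exact Commute.refl _ | exact hx.2.2 | exact hx.2.2.symm⟩
    have conj : ∀ {l₁ l₂ : List Fk} {w₁ w₂ : FiFour.evenPart}, CList E0 l₁ → CList E0 l₂ → l₁.length = l₂.length →
        l₁.length ≤ 4 → 1 ≤ l₁.length → l₁.prod = w₁ → l₂.prod = w₂ → ∃ m ∈ M, m * ψ w₁ * m⁻¹ = ψ w₂ := by
      intro l₁ l₂ w₁ w₂ a b e e4 e1 p1 p2
      obtain ⟨g, hg, hge⟩ := even_conj a b e e4 e1
      refine ⟨ψ ⟨g, hg⟩, ⟨_, rfl⟩, ?_⟩
      rw [← map_inv, ← map_mul, ← map_mul]
      refine congrArg ψ (Subtype.ext ?_)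
      show g * w₁.1 * g⁻¹ = w₂.1
      rw [← p1, ← p2, hge]
    have p0 : [x.1, ll].prod = ((⟨(up zz).1, chi_up zz⟩ : FiFour.evenPart) : Fk) := by simp [hup]
    rcases hlen with k | k
    · left
      rw [ht]
      exact conj hl0 hl (by simp [k]) (by simp) (by simp) p0 hlp
    · rcases hzlen with kz | kz
      · exfalso
        obtain ⟨m, -, e⟩ := conj hl0 hlz (by simp [kz]) (by simp) (by simp) p0 hzp
        rw [← ht, hn₂] at e
        exact hzt (isConj_iff.2 ⟨m, e⟩).symm
      · right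
        rw [← hn₂]
        exact conj hlz hl (by omega) (by omega) (by omega) hzp hlp
  have hprop : ∀ g, g * t * g⁻¹ ∈ M → g ∈ M := by
    intro g hg
    rcases key _ hg (by rw [show g * t * g⁻¹ * (g * t * g⁻¹) = g * (t * t) * g⁻¹ by group, ht2]; group)
      (fun e => htne (conj_eq_one_iff.1 e)) with ⟨m, hm, e⟩ | ⟨m, -, e⟩
    · have : m⁻¹ * g ∈ M := hCt _ (by
        show m⁻¹ * g * t = t * (m⁻¹ * g)
        calc m⁻¹ * g * t = m⁻¹ * (g * t * g⁻¹) * g := by group
          _ = m⁻¹ * (m * t * m⁻¹) * g := by rw [e]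
          _ = t * (m⁻¹ * g) := by group)
      exact (mul_mem_cancel_left (inv_mem hm)).1 this
    · exact absurd ((isConj_iff.2 ⟨m, e⟩).trans (isConj_iff.2 ⟨g⁻¹, by group⟩)) hzt
  -- the centraliser of the given involution
  have hQ : ∀ q : ↥Q, ((q : ↥(centralizer ({z} : Set G))) : G) ∈ M := by
    intro q
    apply hprop
    have hm : ⁅q, q₀⁆ ∈ zpowers c.zq := by
      rw [← c.D.es.cen, ← c.hE.1.2.2]
      exact Subgroup.commutator_mem_commutator (mem_top q) (mem_top q₀)
    obtain ⟨i, hi⟩ := mem_zpowers_iff.1 hm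
    have e := congrArg (fun w : ↥Q => ((w : ↥(centralizer ({z} : Set G))) : G)) hi
    simp only [commutatorElement_def, coe_mul, coe_inv, SubgroupClass.coe_zpow, c.zv, hq₀] at e
    rw [show ((q : ↥(centralizer ({z} : Set G))) : G) * t * ((q : ↥(centralizer ({z} : Set G))) : G)⁻¹ = z ^ i * t by
      rw [e, inv_mul_cancel_right]]
    exact mul_mem (zpow_mem hzM i) (hCt t (Commute.refl t))
  have hCz : ∀ g, Commute g z → g ∈ M := by
    intro g hg
    apply hprop
    have := hQ ⟨_, (inferInstance : Q.Normal).conj_mem _ q₀.2 ⟨g, mem_centralizer_singleton_iff.2 hg.eq⟩⟩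
    simpa [hq₀] using this
  -- the subgroup is everything
  have htop : M = ⊤ := by
    rw [eq_top_iff]
    intro g _
    by_contra hg
    have hsM : g * t * g⁻¹ ∉ M := fun e => hg (hprop g e)
    have hs1 : g * t * g⁻¹ ≠ 1 := fun e => hsM (e ▸ one_mem M)
    have hs2 : g * t * g⁻¹ * (g * t * g⁻¹) = 1 := by
      rw [show g * t * g⁻¹ * (g * t * g⁻¹) = g * (t * t) * g⁻¹ by group, ht2]; group
    generalize hsdef : g * t * g⁻¹ = s at hsM hs1 hs2
    have hsi : s⁻¹ = s := inv_eq_of_mul_eq_one_right hs2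
    have hzi : z⁻¹ = z := inv_eq_of_mul_eq_one_right hzq
    set a := s * z with ha
    have hsa : s * a * s⁻¹ = a⁻¹ := by rw [ha, mul_inv_rev s z, hzi, hsi, ← mul_assoc, hs2, one_mul]
    have hza : z * a * z⁻¹ = a⁻¹ := by rw [ha, mul_inv_rev s z, hzi, hsi, mul_assoc, mul_assoc, hzq, mul_one]
    rcases Nat.even_or_odd (orderOf a) with ⟨d, hd⟩ | ⟨d, hd⟩
    · have ha0 : 0 < orderOf a := orderOf_pos a
      set w := a ^ d with hw
      have hw2 : w * w = 1 := by rw [hw, ← pow_add, ← hd, pow_orderOf_eq_one]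
      have hw1 : w ≠ 1 := fun e => by
        have := Nat.le_of_dvd (by omega) (orderOf_dvd_iff_pow_eq_one.2 e)
        omega
      have comm : ∀ b, b * a * b⁻¹ = a⁻¹ → Commute b w := fun b hb => by
        refine mul_inv_eq_iff_eq_mul.1 ?_
        rw [hw, ← conj_pow, hb, inv_pow]
        exact inv_eq_of_mul_eq_one_right hw2
      have hwM : w ∈ M := hCz w (comm z hza).symm
      refine hsM ?_
      have back : ∀ u m, m ∈ M → m * u * m⁻¹ = w → (∀ k, Commute k u → k ∈ M) → s ∈ M := by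
        intro u m hm e hu
        have hcw : Commute (m⁻¹ * s * m) u := by
          have := (comm s hsa).map (MulAut.conj m⁻¹)
          simp only [MulAut.conj_apply, inv_inv, ← e] at this
          rwa [show m⁻¹ * (m * u * m⁻¹) * m = u by group] at this
        exact (mul_mem_cancel_left (inv_mem hm)).1 ((mul_mem_cancel_right hm).1 (hu _ hcw))
      rcases key w hwM hw2 hw1 with ⟨m, hm, e⟩ | ⟨m, hm, e⟩
      exacts [back t m hm e hCt, back z m hm e hCz]
    · -- conjugate otherwise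
      have e : a ^ d * z * (a ^ d)⁻¹ = z * s * z⁻¹ := by
        have e1 : z * (a ^ d)⁻¹ = a ^ d * z := by
          have := conj_pow (a := z) (b := a) (i := d)
          rw [hza, inv_pow] at this
          rw [this, ← mul_assoc, ← mul_assoc, hzq, one_mul, hzi]
        rw [mul_assoc, e1, ← mul_assoc, ← pow_add]
        have h1 : a ^ (d + d + 1) = 1 := by rw [show d + d + 1 = orderOf a by omega, pow_orderOf_eq_one]
        rw [pow_succ, mul_eq_one_iff_eq_inv] at h1
        rw [h1, ha, mul_inv_rev, hzi, hsi]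
      refine hzt (((isConj_iff.2 ⟨a ^ d, e⟩).trans (IsConj.symm (isConj_iff.2 ⟨z, rfl⟩))).trans ?_)
      exact (IsConj.symm (isConj_iff.2 ⟨g, hsdef⟩))
  exact ⟨((MulEquiv.ofBijective ψ ⟨hψi, MonoidHom.range_eq_top.1 htop⟩)).symm⟩

end Cfsg.Lib.FiPrime
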