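import Cfsg.Agent.FiPrime.Frame
import Cfsg.Agent.M23Rec.Build

/-!
The presented group on ten letters inside the group, extending the double cover: eight members seen from the involution
commute with a member of a neighbouring class, which serves as the tenth letter.
-/

set_option autoImplicit false
set_option linter.unusedSectionVars false
set_option linter.style.haveILetI false
set_option maxRecDepth 20000
set_option maxHeartbeats 1000000

namespace Cfsg.Lib.FiPrime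

open Subgroup Cfsg.Lib.ThreeTr Cfsg.Lib.CosetCert
open scoped commutatorElement
open Cfsg.Lib.M23Rec (Fj zz D0 P0 H23 h23 zz_mem zz_sq mem_H P0_le P0_conj finite_fj Sees imZ_mem_H letter_P0
  down_letter down_transp down_inj down_commute adjP exists_probe only_base cj root_word down_base_cases center_cases
  base_central scanL perp_lists)

attribute [local irreducible] FiTwenty.sig0 FiTwenty.sig1 FiTwenty.sig2 FiTwenty.sig3 FiTwenty.sig4 FiTwenty.sig5
  FiTwenty.sig6 FiTwenty.sig7 FiTwenty.sig8 FiTwenty.sig9 FiTwenty.sig10 FiTwenty.subPts FiTwenty.subIdx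
  FiTwenty.subTree1Mask FiTwenty.subTree2Mask

universe u

variable {G : Type u} [Group G]

theorem mem_Fr {ι : H23 →* G} {g e : G} : e ∈ Fr ι g ↔ e ∈ NS ((MulAut.conj g).toMonoidHom.comp ι) :=
  exists_congr fun x => and_congr_right fun _ =>
    ⟨fun k => by show g * ι x * g⁻¹ = e; rw [k]; group, fun k => by
      replace k : g * ι x * g⁻¹ = e := k
      rw [← k]; group⟩

theorem sees_exists {ι : H23 →* G} {y : G} (hy : y ∈ NS ι) : ∃ z, Sees ι y z := by
  obtain ⟨x, hx, rfl⟩ := hy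
  obtain ⟨z, hz⟩ := FiPres.exists_point (down_transp hx)
  exact ⟨z, x, hx, rfl, hz⟩

theorem sees_lift (ι : H23 →* G) (z : Fin 3510) : ∃ y ∈ NS ι, Sees ι y z := by
  haveI := FiPres.transitive
  obtain ⟨g, rfl⟩ := MulAction.exists_smul_eq Cfsg.Spor.Fi22 FiPres.p0 z
  obtain ⟨c, rfl⟩ := FiTwenty.down_surjective g
  have hx : ((c * ⟨_, P0_le letter_P0⟩ * c⁻¹ : H23) : Fj) ∈ P0 := P0_conj c.2 letter_P0
  refine ⟨_, ⟨_, hx, rfl⟩, _, hx, rfl, ?_⟩
  rw [FiPres.tr_orbit, map_mul, map_mul, map_inv, down_letter]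

theorem sees_eq {ι : H23 →* G} (hinj : Function.Injective ι) {y y' : G} {z z' : Fin 3510} (hz : Sees ι y z)
    (hz' : Sees ι y' z') : (z = z' ↔ y = y') ∧ (FiPres.tr z • z' ≠ z' ↔ ¬ Commute y y') := by
  obtain ⟨x, hx, rfl, e⟩ := hz
  obtain ⟨x', hx', rfl, e'⟩ := hz'
  refine ⟨⟨fun k => by rw [down_inj hx hx' (by rw [← e, ← e', k])], fun k => FiPres.tr_injective ?_⟩, ?_⟩
  · rw [e, e', hinj k]
  · rw [ne_eq, FiPres.tr_fix, e, e']
    exact not_congr ⟨fun k => (down_commute hx hx' k).map ι, fun k => by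
      refine Commute.map (show Commute x x' from hinj ?_) FiTwenty.down
      rw [map_mul, map_mul]
      exact k.eq⟩

namespace Frames

variable {t : G} {ι : H23 →* G} (h : Frames t ι)
include h

theorem inj_view (g : G) : Function.Injective ((MulAut.conj g).toMonoidHom.comp ι) :=
  (MulAut.conj g).injective.comp h.inj

theorem sq_Fr {g e : G} (he : e ∈ Fr ι g) : e * e = 1 := by
  have := h.sq_N he
  rw [show g⁻¹ * e * g * (g⁻¹ * e * g) = g⁻¹ * (e * e) * g⁻¹⁻¹ by group, conj_eq_one_iff] at this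
  exact this

theorem cj_N {p q : G} (hp : p ∈ NS ι) (hq : q ∈ NS ι) : cj p q ∈ NS ι := by
  obtain ⟨x, hx, rfl⟩ := hp
  have := h.keepN (g := ι x) ⟨x, rfl⟩ hq
  rwa [inv_eq_of_mul_eq_one_right (h.sq_N ⟨x, hx, rfl⟩)] at this

/-- The eight. -/
theorem exists_eight : ∃ c : G, c * c = 1 ∧ ¬ Commute t c ∧ ∃ tt : Fin 9 → G, ∀ k : Fin 9, k ≠ 6 →
    (tt k ∈ NS ι ∧ Commute (tt k) c ∧ ∀ g, g * t * g⁻¹ = tt k → t ∈ Fr ι g → c ∈ Fr ι g) ∧
    ∀ j : Fin 9, j ≠ 6 → j < k → tt j ≠ tt k ∧ (¬ Commute (tt j) (tt k) ↔ FiPres.adjB j.val k.val = true) := by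
  haveI := finite_fj
  set y : G := ι ⟨_, P0_le letter_P0⟩
  have hy : y ∈ NS ι := ⟨_, letter_P0, rfl⟩
  obtain ⟨g0, hg0, ht0, -⟩ := h.exch_frame hy
  obtain ⟨x', hx', hx'e⟩ := ht0
  obtain ⟨c0, hc0, hmap⟩ := perp_lists (l := [FiTwenty.imZ 0]) (l' := [(x' : Fj)])
    ⟨List.nodup_singleton _, by simp [letter_P0.1], by simp⟩ ⟨List.nodup_singleton _, by simp [hx'.1], by simp⟩
    (by simp [letter_P0]) (by simp [hx']) rfl (by simp)
  simp only [List.map_cons, List.map_nil, List.cons.injEq, and_true] at hmap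
  set gy := g0 * ι ⟨c0, hc0⟩ with hgy
  set ψ := (MulAut.conj gy).toMonoidHom.comp ι with hψ
  have hct : Commute (ι ⟨c0, hc0⟩) t := h.comm_base _
  have hgy' : gy * t * gy⁻¹ = y := by
    rw [hgy, show g0 * ι ⟨c0, hc0⟩ * t * (g0 * ι ⟨c0, hc0⟩)⁻¹ = g0 * (ι ⟨c0, hc0⟩ * t) * (ι ⟨c0, hc0⟩)⁻¹ * g0⁻¹ by
      group, hct.eq, ← hg0]
    group
  set L : Fin 9 → G := fun k => ψ ⟨FiTwenty.imZ k.val, imZ_mem_H k.isLt⟩ with hLdef
  have hL0 : L 0 = t := by
    show gy * ι ⟨FiTwenty.imZ 0, imZ_mem_H (show 0 < 9 by norm_num)⟩ * gy⁻¹ = t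
    rw [hgy, show g0 * ι ⟨c0, hc0⟩ * ι ⟨FiTwenty.imZ 0, imZ_mem_H (show 0 < 9 by norm_num)⟩ *
      (g0 * ι ⟨c0, hc0⟩)⁻¹ = g0 * (ι ⟨c0, hc0⟩ * ι ⟨FiTwenty.imZ 0, imZ_mem_H (show 0 < 9 by norm_num)⟩ *
        (ι ⟨c0, hc0⟩)⁻¹) * g0⁻¹ by group, ← map_inv, ← map_mul, ← map_mul,
      show (⟨c0, hc0⟩ : H23) * ⟨FiTwenty.imZ 0, _⟩ * (⟨c0, hc0⟩ : H23)⁻¹ = x' from Subtype.ext hmap.symm, hx'e]
    group
  have hLp : ∀ k, L k ∈ Fr ι gy := fun k => mem_Fr.2 ⟨_, M23Rec.letter_perp k.val k.isLt, rfl⟩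
  have hty : t ∈ Fr ι gy := hL0 ▸ hLp 0
  have hsee : ∀ k, Sees ψ (L k) (FiPres.ptL k) := fun k =>
    ⟨_, M23Rec.letter_perp k.val k.isLt, rfl, (FiPres.letter_facts k).2.1.trans (FiTwenty.down_eq (FiTwenty.agrees_gen
      ((show ∀ k : Fin 9, k.val ∈ FiTwenty.lamH by decide) k))).symm⟩
  have hrel : ∀ j k, j ≠ k → L j ≠ L k ∧ (¬ Commute (L j) (L k) ↔ FiPres.adjB j.val k.val = true) := fun j k hne => by
    obtain ⟨h1, h2⟩ := sees_eq (h.inj_view gy) (hsee j) (hsee k)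
    obtain ⟨h3, h4⟩ := (FiPres.letter_facts k).2.2 j hne
    exact ⟨fun e => h3 (h1.2 e), h2.symm.trans h4⟩
  have hcom : ∀ j k, FiPres.adjB j.val k.val = false → Commute (L j) (L k) := fun j k e => by
    rcases eq_or_ne j k with rfl | hne
    · exact Commute.refl _
    · exact not_not.1 fun e' => by rw [(hrel j k hne).2.1 e'] at e; exact Bool.false_ne_true e.symm
  have hyc : ∀ k, Commute y (L k) := fun k => hgy' ▸ (h.comm_Fr (hLp k)).symm
  have hLy : ∀ k, L k ≠ y := fun k => hgy' ▸ h.ne_Fr (hLp k)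
  have hyt : Commute t y := (h.comm_N hy).symm
  have hdperp : ∀ k : Fin 9, k ≠ 0 → k ≠ 1 → L k ∈ NS ι := fun k h0 h1 => by
    refine mem_Fr_one.1 (h.coh (g := gy) (k := 1) ?_ ?_ (hLp k) ?_ ?_)
    · simpa using hty
    · rw [hgy']; exact mem_Fr_one.2 hy
    · have := (hcom 0 k ((show ∀ k : Fin 9, k ≠ 1 → FiPres.adjB 0 k.val = false by decide) k h1)).symm
      simpa [hL0] using this
    · have := (hrel k 0 h0).1
      simpa [hL0] using this
  -- the view from the last letter but two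
  obtain ⟨g8, hg8, ht8, hnear8⟩ := h.exch_frame (hdperp 8 (by decide) (by decide))
  set χ := (MulAut.conj g8).toMonoidHom.comp ι with hχ
  have hy8 : y ∈ Fr ι g8 := hnear8 y hy (hyc 8) (hLy 8).symm
  set f : Fin 7 → G := ![L 3, L 4, L 5, L 6, L 0, L 1, y] with hfdef
  have hfp : ∀ k, f k ∈ Fr ι g8 := by
    have hk : ∀ k : Fin 9, k ≠ 8 → FiPres.adjB 8 k.val = false → L k ∈ Fr ι g8 := fun k hne e =>
      h.coh (g := gy) (k := g8) (hg8.symm ▸ hLp 8) (hgy'.symm ▸ hy8) (hLp k) (hg8.symm ▸ (hcom 8 k e).symm)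
        (hg8.symm ▸ (hrel k 8 hne).1)
    intro k
    fin_cases k <;> first
      | exact hk _ (by decide) (by decide)
      | exact hy8
  have hf : ∀ j k : Fin 7, j < k → f j ≠ f k ∧ (¬ Commute (f j) (f k) ↔ adjP j.val k.val = true) := by
    intro j k hjk
    rcases (show ∀ k : Fin 7, k.val < 6 ∨ k = 6 by decide) k with hk | rfl
    · let σ : Fin 7 → Fin 9 := ![3, 4, 5, 6, 0, 1, 2]
      have hfs : ∀ i : Fin 7, i.val < 6 → f i = L (σ i) := fun i hi => by
        fin_cases i <;> first | rfl | (simp at hi)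
      have hj : j.val < 6 := by rw [Fin.lt_def] at hjk; omega
      obtain ⟨a, b⟩ := hrel (σ j) (σ k) ((show ∀ j k : Fin 7, j < k → ![3, 4, 5, 6, 0, 1, 2] j ≠
        (![3, 4, 5, 6, 0, 1, 2] k : Fin 9) by decide) j k hjk)
      rw [hfs j hj, hfs k hk]
      refine ⟨a, b.trans (Iff.of_eq (congrArg (· = true) ((show ∀ j k : Fin 7, j < k → k.val < 6 →
        FiPres.adjB (![3, 4, 5, 6, 0, 1, 2] j : Fin 9).val (![3, 4, 5, 6, 0, 1, 2] k : Fin 9).val = adjP j.val k.val
          by decide) j k hjk hk)))⟩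
    · have hj : ∃ i, f j = L i := by
        fin_cases j <;> first | exact ⟨_, rfl⟩ | exact absurd hjk (by decide)
      obtain ⟨i, hi⟩ := hj
      rw [hi, show f 6 = y from rfl]
      refine ⟨hLy i, iff_of_false (not_not.2 (hyc i).symm) ?_⟩
      rw [(show ∀ j : Fin 7, j < 6 → adjP j.val (6 : Fin 7).val = false by decide) j hjk]
      exact Bool.false_ne_true
  choose p hp using fun k => sees_exists (mem_Fr.1 (hfp k))
  obtain ⟨z, hz⟩ := exists_probe (t := p) fun j k hjk => by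
    obtain ⟨h1, h2⟩ := sees_eq (h.inj_view g8) (hp j) (hp k)
    exact ⟨fun e => (hf j k hjk).1 (h1.1 e), h2.trans (hf j k hjk).2⟩
  obtain ⟨w, hw', hwz⟩ := sees_lift χ z
  have hw : w ∈ Fr ι g8 := mem_Fr.2 hw'
  have hwf : ∀ k, w ≠ f k ∧ (¬ Commute (f k) w ↔ (k = 1 ∨ k = 6)) := fun k => by
    obtain ⟨h1, -⟩ := sees_eq (h.inj_view g8) hwz (hp k)
    obtain ⟨-, h2⟩ := sees_eq (h.inj_view g8) (hp k) hwz
    exact ⟨fun e => (hz k).1 (h1.2 e), h2.symm.trans (hz k).2⟩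
  have hwc : ∀ k : Fin 7, k ≠ 1 → k ≠ 6 → Commute (f k) w := fun k h1 h6 =>
    not_not.1 fun e => by rcases (hwf k).2.1 e with e' | e' <;> contradiction
  have hwd : w ∈ NS ι := by
    refine mem_Fr_one.1 (h.coh (g := g8) (k := 1) ?_ ?_ hw ?_ ?_)
    · simpa using ht8
    · rw [hg8]; exact mem_Fr_one.2 (hdperp 8 (by decide) (by decide))
    · have := (hwc 4 (by decide) (by decide)).symm
      simpa [hfdef, hL0] using this
    · have := (hwf 4).1
      simpa [hfdef, hL0] using this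
  have hnwy : ¬ Commute y w := (hwf 6).2.2 (Or.inr rfl)
  have hw8 : Commute w (L 8) := hg8 ▸ h.comm_Fr hw
  have hbraid : ∀ p ∈ NS ι, ∀ q ∈ NS ι, ¬ Commute p q → cj p q = cj q p := fun p hp' q hq hn => by
    have e3 := h.cube_N hp' hq hn
    rw [pow_succ, pow_two] at e3
    have e4 : (p * q * p) * (q * p * q) = 1 := by simpa only [mul_assoc] using e3
    have e5 : cj p q = (q * p * q)⁻¹ := eq_inv_of_mul_eq_one_left e4
    rw [e5, mul_inv_rev, mul_inv_rev, inv_eq_of_mul_eq_one_right (h.sq_N hp'), inv_eq_of_mul_eq_one_right (h.sq_N hq),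
      ← mul_assoc]
  -- the new member commutes with the seventh letter of the chain
  have hw7 : Commute w (L 7) := by
    by_contra hn
    have hne83 : L 8 ≠ L 3 := (hrel 8 3 (by decide)).1
    obtain ⟨⟨u7, u8, u3, uy⟩, hne⟩ := root_word (w := w) (y := y) (a := L 7) (b := L 8) (c := L 3) (h.sq_Fr hw) (h.sq_N hy)
      (h.sq_Fr (hLp 7)) (h.sq_Fr (hLp 8)) (h.sq_Fr (hLp 3)) (hbraid w hwd y hy fun e => hnwy e.symm)
      (hbraid w hwd _ (hdperp 7 (by decide) (by decide)) hn)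
      (hbraid _ (hdperp 7 (by decide) (by decide)) _ (hdperp 8 (by decide) (by decide))
        ((hrel 7 8 (by decide)).2.2 (by decide)))
      (hbraid _ (hdperp 7 (by decide) (by decide)) _ (hdperp 3 (by decide) (by decide))
        ((hrel 7 3 (by decide)).2.2 (by decide)))
      (hyc 7) (hyc 8) (hyc 3) hw8 (hwc 0 (by decide) (by decide)).symm (hcom 8 3 (by decide))
    set u := cj w (cj y (cj (L 7) (cj (L 3) (cj (L 8) (cj (L 7) w))))) with hu
    have huN : u ∈ NS ι := h.cj_N hwd (h.cj_N hy (h.cj_N (hdperp 7 (by decide) (by decide))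
      (h.cj_N (hdperp 3 (by decide) (by decide)) (h.cj_N (hdperp 8 (by decide) (by decide))
        (h.cj_N (hdperp 7 (by decide) (by decide)) hwd)))))
    have hup : u ∈ Fr ι gy := by
      obtain ⟨g', hg', ht', hn'⟩ := h.exch_frame hy
      exact h.fr_eq (hg'.trans hgy'.symm) ht' hty (hn' u huN uy.symm fun e => hne83 (hne e))
    obtain ⟨x, hxP, hxu⟩ := mem_Fr.1 hup
    have hfix : ∀ k : Fin 9, k ≠ 2 → k ≠ 4 → Commute (L k) u := by
      intro k hk2 hk4
      rcases (show ∀ k : Fin 9, k ≠ 2 → k ≠ 4 → k = 7 ∨ k = 8 ∨ k = 3 ∨ k = 0 ∨ k = 1 ∨ k = 5 ∨ k = 6 by decide)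
        k hk2 hk4 with rfl | rfl | rfl | hk
      · exact u7
      · exact u8
      · exact u3
      have cw : Commute (L k) w := by
        rcases hk with rfl | rfl | rfl | rfl
        exacts [hwc 4 (by decide) (by decide), hwc 5 (by decide) (by decide), hwc 2 (by decide) (by decide),
          hwc 3 (by decide) (by decide)]
      have cy : Commute (L k) y := (hyc k).symm
      obtain ⟨c7, c3, c8⟩ : Commute (L k) (L 7) ∧ Commute (L k) (L 3) ∧ Commute (L k) (L 8) := by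
        rcases hk with rfl | rfl | rfl | rfl <;>
          exact ⟨hcom _ _ (by decide), hcom _ _ (by decide), hcom _ _ (by decide)⟩
      exact (cw.mul_right ((cy.mul_right ((c7.mul_right ((c3.mul_right ((c8.mul_right ((c7.mul_right cw).mul_right
        c7)).mul_right c8)).mul_right c3)).mul_right c7)).mul_right cy)).mul_right cw
    refine hxP.2.1 (only_base hxP.1 fun l hl => ?_)
    rcases eq_or_ne l 10 with rfl | h10
    · exact hxP.2.2
    have hl9 : l < 9 ∧ l ≠ 2 ∧ l ≠ 4 :=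
      (show ∀ l ∈ scanL, l ≠ 10 → l < 9 ∧ l ≠ 2 ∧ l ≠ 4 by decide) l hl h10
    have e := hfix ⟨l, hl9.1⟩ (fun e => hl9.2.1 (congrArg Fin.val e)) (fun e => hl9.2.2 (congrArg Fin.val e))
    rw [← hxu] at e
    exact (show Commute (⟨_, imZ_mem_H hl9.1⟩ : H23) x from h.inj_view gy (((map_mul _ _ _).trans e.eq).trans (map_mul _ _ _).symm)).map
      H23.subtype
  -- the eight
  let σ : Fin 9 → Fin 9 := ![8, 7, 3, 4, 5, 6, 2, 2, 2]
  set tt : Fin 9 → G := ![L 8, L 7, L 3, L 4, L 5, L 6, y, w, y] with httdef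
  have ht : ∀ i : Fin 9, i.val < 6 → tt i = L (σ i) := fun i hi => by
    fin_cases i <;> first | rfl | (simp at hi)
  have hL1t : ¬ Commute t (L 1) := hL0 ▸ (hrel 0 1 (by decide)).2.2 (by decide)
  have frame : ∀ {a : G} (ga : G), a ∈ NS ι → ga * t * ga⁻¹ = a → t ∈ Fr ι ga → L 1 ∈ Fr ι ga →
      ∀ g, g * t * g⁻¹ = a → t ∈ Fr ι g → L 1 ∈ Fr ι g :=
    fun ga _ e1 e2 e3 g e4 e5 => h.fr_eq (e1.trans e4.symm) e2 e5 e3
  refine ⟨L 1, h.sq_Fr (hLp 1), hL1t, tt, fun k hk6 => ⟨?_, fun j hj6 hjk => ?_⟩⟩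
  · rcases (show ∀ k : Fin 9, k ≠ 6 → k.val < 6 ∨ k = 7 ∨ k = 8 by decide) k hk6 with hk | rfl | rfl
    · rw [ht k hk]
      have h0 := (show ∀ k : Fin 9, k.val < 6 → (![8, 7, 3, 4, 5, 6, 2, 2, 2] k : Fin 9) ≠ 0 by decide) k hk
      have h1 := (show ∀ k : Fin 9, k.val < 6 → (![8, 7, 3, 4, 5, 6, 2, 2, 2] k : Fin 9) ≠ 1 by decide) k hk
      have h2 := (show ∀ k : Fin 9, k.val < 6 → FiPres.adjB (![8, 7, 3, 4, 5, 6, 2, 2, 2] k : Fin 9).val 1 = false
           by decide) k hk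
      have hN := hdperp (σ k) h0 h1
      refine ⟨hN, hcom _ _ h2, ?_⟩
      obtain ⟨ga, hga, hta, hna⟩ := h.exch_frame hN
      refine frame ga hN hga hta (h.coh (g := gy) (k := ga) (hga.symm ▸ hLp (σ k)) (hgy'.symm ▸ hna y hy (hyc _)
        (hLy _).symm) (hLp 1) (hga.symm ▸ (hcom _ _ h2).symm) (hga.symm ▸ (hrel 1 (σ k) h1.symm).1))
    · have c5 : Commute (L 1) w := hwc 5 (by decide) (by decide)
      refine ⟨hwd, c5.symm, ?_⟩
      obtain ⟨ga, hga, hta, hna⟩ := h.exch_frame hwd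
      refine frame ga hwd hga hta (h.coh (g := g8) (k := ga) (hga.symm ▸ hw) (hg8.symm ▸ hna (L 8)
        (hdperp 8 (by decide) (by decide)) hw8.symm ?_) (hfp 5) (hga.symm ▸ c5) (hga.symm ▸ ((hwf 5).1).symm))
      exact hg8 ▸ (h.ne_Fr hw).symm
    · exact ⟨hy, hyc 1, frame gy hy hgy' hty (hLp 1)⟩
  · rcases (show ∀ k : Fin 9, k ≠ 6 → k.val < 6 ∨ k = 7 ∨ k = 8 by decide) k hk6 with hk | rfl | rfl
    · have hj : j.val < 6 := by rw [Fin.lt_def] at hjk; omega
      rw [ht j hj, ht k hk]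
      obtain ⟨a, b⟩ := hrel (σ j) (σ k) ((show ∀ j k : Fin 9, j < k → k.val < 6 →
        (![8, 7, 3, 4, 5, 6, 2, 2, 2] j : Fin 9) ≠ ![8, 7, 3, 4, 5, 6, 2, 2, 2] k by decide) j k hjk hk)
      refine ⟨a, b.trans (Iff.of_eq (congrArg (· = true) ((show ∀ j k : Fin 9, j < k → k.val < 6 →
        FiPres.adjB (![8, 7, 3, 4, 5, 6, 2, 2, 2] j : Fin 9).val (![8, 7, 3, 4, 5, 6, 2, 2, 2] k : Fin 9).val =
          FiPres.adjB j.val k.val by decide) j k hjk hk)))⟩
    · rw [show tt 7 = w from rfl]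
      rcases (show ∀ j : Fin 9, j ≠ 6 → j < 7 → j = 0 ∨ j = 1 ∨ j = 2 ∨ j = 3 ∨ j = 4 ∨ j = 5 by decide) j hj6 hjk
        with rfl | rfl | rfl | rfl | rfl | rfl
      · exact ⟨(hg8 ▸ h.ne_Fr hw).symm, iff_of_false (not_not.2 hw8.symm) (by decide)⟩
      · exact ⟨fun e => hnwy (e ▸ hyc 7), iff_of_false (not_not.2 hw7.symm) (by decide)⟩
      · exact ⟨(hwf 0).1.symm, iff_of_false (not_not.2 (hwc 0 (by decide) (by decide))) (by decide)⟩
      · exact ⟨(hwf 1).1.symm, iff_of_true ((hwf 1).2.2 (Or.inl rfl)) (by decide)⟩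
      · exact ⟨(hwf 2).1.symm, iff_of_false (not_not.2 (hwc 2 (by decide) (by decide))) (by decide)⟩
      · exact ⟨(hwf 3).1.symm, iff_of_false (not_not.2 (hwc 3 (by decide) (by decide))) (by decide)⟩
    · rw [show tt 8 = y from rfl]
      rcases (show ∀ j : Fin 9, j ≠ 6 → j < 8 → j.val < 6 ∨ j = 7 by decide) j hj6 hjk with hj | rfl
      · rw [ht j hj]
        exact ⟨hLy _, iff_of_false (not_not.2 (hyc _).symm) (by
          rw [(show ∀ j : Fin 9, j.val < 6 → FiPres.adjB j.val (8 : Fin 9).val = false by decide) j hj]; decide)⟩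
      · exact ⟨(hwf 6).1, iff_of_true (fun e : Commute w y => hnwy e.symm) (by decide)⟩

/-- The presented group in the group, the distinguished member going to the involution. -/
theorem exists_ten : ∃ θ : Fj →* G, Function.Injective θ ∧ θ zz = t ∧ Frames t (θ.comp H23.subtype) := by
  classical
  haveI := finite_fj
  obtain ⟨c, hcc, hdc, tt, ht⟩ := h.exists_eight
  have hpt : ∀ k : Fin 9, ∃ z, k ≠ 6 → Sees ι (tt k) z := fun k => by
    by_cases hk : k = 6
    · exact ⟨FiPres.p0, fun e => absurd hk e⟩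
    · obtain ⟨z, hz⟩ := sees_exists (ht k hk).1.1
      exact ⟨z, fun _ => hz⟩
  choose p hp using hpt
  have hE : FiTen.GoodE p := fun j k hjk hj hk => by
    obtain ⟨h1, h2⟩ := sees_eq h.inj (hp j hj) (hp k hk)
    obtain ⟨h3, h4⟩ := (ht k hk).2 j hj hjk
    exact ⟨fun e => h3 (h1.1 e), h2.trans h4⟩
  obtain ⟨u, hu, hu6⟩ := FiTen.complete hE
  obtain ⟨φ, hφ⟩ := FiTen.exists_aut hu
  choose mem hmem hsees using sees_lift ι
  choose xm hxP hxι hxdown using hsees
  set xv : ℕ → H23 := fun n => if hn : n < 9 then xm (u ⟨n, hn⟩) else 1 with hxvdef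
  set v : ℕ → G := fun n => ι (xv n) with hvdef
  have hxv : ∀ n : Fin 9, xv n.val = xm (u n) := fun n => by simp only [hxvdef, dif_pos n.isLt]
  have hvm : ∀ n : Fin 9, v n.val = mem (u n) := fun n => by simp only [hvdef, hxv, hxι]
  have hvD : ∀ n : Fin 9, v n.val ∈ NS ι := fun n => hvm n ▸ hmem _
  have hsee : ∀ n : Fin 9, Sees ι (v n.val) (u n) := fun n =>
    ⟨_, hxP (u n), by rw [hvm n]; exact hxι _, hxdown _⟩
  have hvrel : ∀ j k : Fin 9, j ≠ k → v j.val ≠ v k.val ∧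
      (¬ Commute (v j.val) (v k.val) ↔ FiPres.adjB j.val k.val = true) := by
    intro j k hne
    obtain ⟨h1, h2⟩ := sees_eq h.inj (hsee j) (hsee k)
    rcases lt_or_gt_of_ne hne with e | e
    · exact ⟨fun e' => (hu j k e).1 (h1.2 e'), h2.symm.trans (hu j k e).2⟩
    · exact ⟨fun e' => (hu k j e).1 (h1.2 e').symm, by
        rw [← h2, FiTen.rel_symm, (FiTen.adjB_ten j k).2.2.2]
        exact (hu k j e).2⟩
  have hvc : ∀ k : Fin 9, k ≠ 6 → Commute (v k.val) c := fun k hk => by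
    obtain ⟨j, hj, e⟩ := hu6 k hk
    rw [(sees_eq h.inj (hsee k) (hp j hj)).1.1 e]
    exact (ht j hj).1.2.1
  have hvq : ∀ n, n < 9 → FiTwenty.down (xv n) = φ (FiPres.im10 n) := fun n hn => by
    simp only [hxvdef, dif_pos hn]
    exact (hxdown _).symm.trans (hφ ⟨n, hn⟩)
  -- a relation of the smaller group avoiding the seventh letter holds
  have hkill : ∀ w : List ℕ, (∀ l ∈ w, l < 9) → 6 ∉ w → wval FiPres.im w = 1 → wval v w = 1 := by
    intro w hw h6 hw1
    have hd1 : FiTwenty.down (wval xv w) = 1 := by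
      rw [map_wval xv FiTwenty.down, wval, List.map_congr_left fun l hl => hvq l (hw l hl)]
      refine (map_wval FiPres.im10 φ.toMonoidHom w).symm.trans ?_
      rw [FiPres.wval_low hw, hw1, map_one]
    have e : wval v w = ι (wval xv w) := (map_wval xv ι w).symm
    rcases down_base_cases hd1 with k | k
    · rw [e, k, map_one]
    · exfalso
      refine hdc ?_
      rw [k, h.base] at e
      rw [← e, wval]
      refine Commute.list_prod_left _ _ fun y hy => ?_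
      obtain ⟨l, hl, rfl⟩ := List.mem_map.1 hy
      exact hvc ⟨l, hw l hl⟩ fun e => h6 (by rwa [show l = 6 from congrArg Fin.val e] at hl)
  -- the nine members generate the centraliser
  set V : Subgroup H23 := closure {y | ∃ n : Fin 9, xv n.val = y} with hVdef
  have himg : V.map FiTwenty.down = ⊤ := by
    rw [hVdef, MonoidHom.map_closure, eq_top_iff, ← Subgroup.map_top_of_surjective φ.toMonoidHom φ.surjective,
      ← FiPres.closure_im, MonoidHom.map_closure]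
    refine closure_mono ?_
    rintro _ ⟨_, ⟨l, hl, rfl⟩, rfl⟩
    exact ⟨xv l, ⟨⟨l, hl⟩, rfl⟩, by rw [hvq l hl, FiPres.im10_low hl]; rfl⟩
  have hVtop : V = ⊤ := by
    refine top_le_iff.1 ?_
    rw [← FiSixfold.double_perfect, _root_.commutator_def, commutator_le]
    intro a _ a' _
    have ha : ∀ a : H23, ∃ y ∈ V, ∃ z : H23, (∀ w, Commute z w) ∧ a = y * z := fun a => by
      obtain ⟨y, hy, e⟩ : FiTwenty.down a ∈ V.map FiTwenty.down := himg ▸ mem_top _
      refine ⟨y, hy, y⁻¹ * a, fun w => ?_, by group⟩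
      rcases down_base_cases (x := y⁻¹ * a) (by rw [map_mul, map_inv, e, inv_mul_cancel]) with k | k <;> rw [k]
      exacts [Commute.one_left w, (base_central w).symm]
    obtain ⟨y, hy, z, c1, rfl⟩ := ha a
    obtain ⟨y', hy', z', c2, rfl⟩ := ha a'
    have : ⁅y * z, y' * z'⁆ = ⁅y, y'⁆ := by
      rw [commutatorElement_def, commutatorElement_def, mul_inv_rev, mul_inv_rev]
      calc y * z * (y' * z') * (z⁻¹ * y⁻¹) * (z'⁻¹ * y'⁻¹)
          = y * (z * (y' * z')) * z⁻¹ * y⁻¹ * z'⁻¹ * y'⁻¹ := by group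
        _ = y * y' * z' * y⁻¹ * z'⁻¹ * y'⁻¹ := by rw [(c1 _).eq]; group
        _ = y * y' * (z' * y⁻¹) * z'⁻¹ * y'⁻¹ := by group
        _ = y * y' * y⁻¹ * y'⁻¹ := by rw [(c2 _).eq]; group
    rw [this, commutatorElement_def]
    exact mul_mem (mul_mem (mul_mem hy hy') (inv_mem hy)) (inv_mem hy')
  have hrange : ∀ a : H23, ι a ∈ closure {y | ∃ n : Fin 9, v n.val = y} := fun a => by
    have h1 := mem_map_of_mem ι (show a ∈ V from hVtop ▸ mem_top a)
    rw [hVdef, MonoidHom.map_closure] at h1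
    refine closure_mono ?_ h1
    rintro _ ⟨_, ⟨n, rfl⟩, rfl⟩
    exact ⟨n, rfl⟩
  -- the seventh member does not commute with the tenth
  have hc6 : ¬ Commute (v 6) c := fun h6 => hdc (by
    have hall : ∀ n : Fin 9, Commute (v n.val) c := fun n => by
      by_cases e : n = 6
      · subst e; exact h6
      · exact hvc n e
    have hd := hrange FiTwenty.zH
    rw [h.base] at hd
    refine Commute.symm (mem_centralizer_singleton_iff.1 ((closure_le (centralizer {c})).2 ?_ hd)).symm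
    rintro _ ⟨n, rfl⟩
    exact mem_centralizer_singleton_iff.2 (hall n).eq)
  have hc3 : (v 6 * c) ^ 3 = 1 := by
    obtain ⟨j, hj, ej⟩ := hu6 0 (by decide)
    have hv0 : v 0 = tt j := by
      exact (sees_eq h.inj (hsee 0) (hp j hj)).1.1 ej
    obtain ⟨g0, hg0, ht0, hn0⟩ := h.exch_frame (hvD 0)
    have h06 : Commute (v 0) (v 6) := not_not.1 fun e =>
      absurd ((hvrel 0 6 (by decide)).2.1 e) (by decide)
    exact h.cube_Fr (hn0 _ (hvD 6) h06.symm (hvrel 6 0 (by decide)).1) ((ht j hj).1.2.2 g0 (hg0.trans hv0) ht0) hc6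
  -- the ten letters
  set w10 : ℕ → G := fun n => if n = 9 then c else v n with hw10
  have hw9 : ∀ n, n < 9 → w10 n = v n := fun n hn => by
    simp only [hw10, if_neg (show n ≠ 9 by omega)]
  have hD10 : ∀ n : Fin 10, w10 n.val * w10 n.val = 1 := fun n => by
    rcases Nat.lt_or_ge n.val 9 with e | e
    · rw [hw9 _ e]; exact h.sq_N (hvD ⟨_, e⟩)
    · simp only [hw10, if_pos (show n.val = 9 by omega)]; exact hcc
  have h9 : ∀ a : Fin 9, (¬ Commute (v a.val) c ↔ FiTen.adjTen a.val 9 = true) := fun a => by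
    rw [(FiTen.adjB_ten a a).2.1]
    by_cases e : a = 6
    · subst e; simpa using hc6
    · simp [e, hvc a e]
  have hrel10 : ∀ a a' : Fin 10, a ≠ a' →
      (¬ Commute (w10 a.val) (w10 a'.val) ↔ FiTen.adjTen a.val a'.val = true) ∧
      (¬ Commute (w10 a.val) (w10 a'.val) → (w10 a.val * w10 a'.val) ^ 3 = 1) := by
    intro a a' hne
    have hflip : ∀ p q : G, p * p = 1 → q * q = 1 → (p * q) ^ 3 = 1 → (q * p) ^ 3 = 1 := fun p q hp hq e => by
      rw [show q * p = (p * q)⁻¹ by rw [mul_inv_rev, inv_eq_of_mul_eq_one_right hp, inv_eq_of_mul_eq_one_right hq],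
        inv_pow, e, inv_one]
    rcases Nat.lt_or_ge a.val 9 with e | e <;> rcases Nat.lt_or_ge a'.val 9 with e' | e'
    · rw [hw9 _ e, hw9 _ e', (FiTen.adjB_ten ⟨_, e⟩ ⟨_, e'⟩).1]
      exact ⟨(hvrel ⟨_, e⟩ ⟨_, e'⟩ fun k => hne (Fin.ext (Fin.mk.inj_iff.1 k))).2,
        fun hn => h.cube_N (hvD ⟨_, e⟩) (hvD ⟨_, e'⟩) hn⟩
    · rw [hw9 _ e, show a'.val = 9 by omega, show w10 9 = c from rfl]
      refine ⟨h9 ⟨_, e⟩, fun hn => ?_⟩
      rw [show a.val = 6 from not_not.1 fun k => hn (hvc ⟨_, e⟩ fun k' => k (congrArg Fin.val k'))]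
      exact hc3
    · rw [hw9 _ e', show a.val = 9 by omega, show w10 9 = c from rfl,
        (FiTen.adjB_ten ⟨_, e'⟩ ⟨_, e'⟩).2.2.1, ← h9 ⟨_, e'⟩]
      refine ⟨not_congr ⟨fun k => k.symm, fun k => k.symm⟩, fun hn => ?_⟩
      rw [show a'.val = 6 from not_not.1 fun k => hn (hvc ⟨_, e'⟩ fun k' => k (congrArg Fin.val k')).symm]
      exact hflip _ _ (h.sq_N (hvD 6)) hcc hc3
    · exact absurd (Fin.ext (by omega)) hne
  have hgood : FiTwenty.Good w10 := by
    intro w hw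
    rcases List.mem_append.1 hw with hw | hw
    · obtain ⟨a, ha, hw⟩ := List.mem_flatMap.1 hw
      obtain ⟨a', ha', rfl⟩ := List.mem_map.1 hw
      rw [List.mem_range] at ha ha'
      rw [FiTwenty.pairWord, FiTwenty.wval_rpt, FiTwenty.wval_cons, FiTwenty.wval_cons, FiTwenty.wval_nil, mul_one,
        FiTen.label_ten ⟨a, ha⟩ ⟨a', ha'⟩]
      split_ifs with e1 e2
      · rw [pow_one, show a = a' from congrArg Fin.val e1, hD10 ⟨a', ha'⟩]
      · exact (hrel10 _ _ e1).2 ((hrel10 _ _ e1).1.2 e2)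
      · have hc := not_not.1 fun k => e2 ((hrel10 _ _ e1).1.1 k)
        rw [hc.mul_pow, pow_two, pow_two, hD10 ⟨a, ha⟩, hD10 ⟨a', ha'⟩, one_mul]
    · have hcase : ∀ w' : List ℕ, (∀ l ∈ w', l < 9) → 6 ∉ w' → wval FiPres.im w' = 1 → wval w10 w' = 1 :=
        fun w' hl h6 h1 => by
          rw [← hkill w' hl h6 h1, wval, wval]
          exact congrArg List.prod (List.map_congr_left fun l hl' => hw9 l (hl l hl'))
      have hg := FiPres.good_im
      simp only [FiTwenty.extraWords, List.mem_cons, List.not_mem_nil, or_false] at hw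
      rcases hw with rfl | rfl
      · exact hcase _ (by decide) (by decide) (hg _ (List.mem_append_right _ (by
          simp [FiPres.extraWords, FiTwenty.rpt, FiPres.rpt])))
      · exact hcase _ (by decide) (by decide) (hg _ (List.mem_append_right _ (by
          simp [FiPres.extraWords, FiTwenty.rpt, FiPres.rpt])))
  let θ : Fj →* G := PresentedGroup.toGroup hgood.relators
  have ha : ∀ l, l < 9 → θ (FiTwenty.imZ l) = v l := fun l hl => by
    rw [FiTwenty.imZ_low (by omega), ← hw9 l hl]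
    refine (PresentedGroup.toGroup.of _).trans ?_
    show w10 (FiTwenty.idxOf (FiTwenty.genOf l)) = w10 l
    rw [(show ∀ l : Fin 9, FiTwenty.idxOf (FiTwenty.genOf l.val) = l.val by decide) ⟨l, hl⟩]
  have hd1 : t ≠ 1 := fun e => by
    have := h.inj ((h.base.trans e).trans (map_one ι).symm)
    exact FiTwenty.z_ne (congrArg Subtype.val this)
  have hinj : Function.Injective θ := by
    haveI := FiTwenty.simple_fi
    rcases (MonoidHom.normal_ker θ).eq_bot_or_eq_top with e | e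
    · exact θ.ker_eq_bot_iff.1 e
    · exfalso
      have h0 : θ (FiTwenty.imZ 0) = 1 := MonoidHom.mem_ker.1 (e ▸ mem_top _)
      rw [ha 0 (by norm_num)] at h0
      obtain ⟨x, hx, hxe⟩ := hvD 0
      rw [show v 0 = ι x from hxe.symm, ← map_one ι] at h0
      have h2 := h23.cls.1.1 _ hx.1
      rw [h.inj h0, coe_one, orderOf_one] at h2
      norm_num at h2
  have hmap : ∀ a : H23, ∃ b : H23, θ b = ι a := fun a => by
    have h1 : closure {y | ∃ n : Fin 9, v n.val = y} ≤ (H23).map θ := (closure_le _).2 (by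
      rintro _ ⟨n, rfl⟩
      exact ⟨_, imZ_mem_H n.isLt, ha n.val n.isLt⟩)
    obtain ⟨b, hb, e⟩ := h1 (hrange a)
    exact ⟨⟨b, hb⟩, e⟩
  have hback : ∀ b : H23, ∃ a : H23, ι a = θ b := fun b => by
    have h1 : (H23).map θ ≤ ι.range := by
      refine map_le_iff_le_comap.2 ((closure_le _).2 ?_)
      rintro _ ⟨l, hl, rfl⟩
      exact ⟨xv l, (ha l ((show ∀ l ∈ FiTwenty.lamH, l < 9 by decide) l hl)).symm⟩
    exact h1 ⟨b, b.2, rfl⟩
  obtain ⟨ζ, hζ⟩ := hmap FiTwenty.zH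
  rw [h.base] at hζ
  have hζc : ∀ y : H23, Commute ζ y := fun y => by
    obtain ⟨a, ha'⟩ := hback y
    refine Subtype.ext (hinj ?_)
    rw [coe_mul, coe_mul, map_mul, map_mul, hζ, ← ha']
    exact (h.comm_base a).eq.symm
  have hζz : ζ = FiTwenty.zH := by
    rcases center_cases hζc with k | k
    · exact absurd (by rw [← hζ, k, OneMemClass.coe_one, map_one]) hd1
    · exact k
  rw [hζz] at hζ
  set κ := θ.comp H23.subtype
  have hκr : κ.range = ι.range := le_antisymm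
    (by rintro _ ⟨x, rfl⟩; obtain ⟨a, ha⟩ := hback x; exact ⟨a, ha⟩)
    (by rintro _ ⟨a, rfl⟩; obtain ⟨b, hb⟩ := hmap a; exact ⟨b, hb⟩)
  have hl0 : κ ⟨_, P0_le letter_P0⟩ ∈ NS ι := by
    show θ (FiTwenty.imZ 0) ∈ NS ι
    rw [ha 0 (by norm_num)]
    exact hvD 0
  have hconj : ∀ x : H23, (x : Fj) ∈ P0 → ∃ k, x = k * ⟨_, P0_le letter_P0⟩ * k⁻¹ := fun x hx => by
    obtain ⟨k, hk, hkx⟩ := perp_lists (l := [FiTwenty.imZ 0]) (l' := [(x : Fj)])
      ⟨List.nodup_singleton _, by simp [letter_P0.1], by simp⟩ ⟨List.nodup_singleton _, by simp [hx.1], by simp⟩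
      (by simp [letter_P0]) (by simp [hx]) rfl (by simp)
    simp only [List.map_cons, List.map_nil, List.cons.injEq, and_true] at hkx
    exact ⟨⟨k, hk⟩, Subtype.ext hkx⟩
  have hκN : NS κ = NS ι := Set.ext fun n => by
    constructor
    · rintro ⟨x, hx, rfl⟩
      obtain ⟨k, rfl⟩ := hconj x hx
      rw [map_mul, map_mul, map_inv]
      exact h.keepN (hκr ▸ MonoidHom.mem_range.2 ⟨k, rfl⟩) hl0
    · rintro ⟨x, hx, rfl⟩
      obtain ⟨y0, hy0, ey0⟩ := hl0
      obtain ⟨k, rfl⟩ := hconj x hx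
      obtain ⟨k0, hk0⟩ := hconj y0 hy0
      obtain ⟨m, hm⟩ := (show ι (k * k0⁻¹) ∈ κ.range by rw [hκr]; exact ⟨_, rfl⟩)
      refine ⟨m * ⟨_, P0_le letter_P0⟩ * m⁻¹, by rw [coe_mul, coe_mul, coe_inv]; exact P0_conj m.2 letter_P0, ?_⟩
      rw [map_mul, map_mul, map_inv, hm, ← ey0, hk0, ← map_inv, ← map_mul, ← map_mul]
      congr 1
      group
  have hκS : Short t κ := by
    refine ⟨hinj.comp H23.subtype_injective, hζ, ?_, ?_, fun g hg hall => ?_⟩
    · rw [hκr]; exact h.two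
    · rw [hκr]; exact h.outer
    · rw [hκr]
      refine h.cen g hg fun x => ?_
      obtain ⟨b, hb⟩ := hmap x
      rw [← hb]
      exact hall b
  refine ⟨θ, hinj, hζ, { hκS with exch := ?_, keep := ?_ }⟩
  · rw [hκN]; exact h.exch
  · intro x y hx hy hne hc
    obtain ⟨x', hx', ex⟩ : κ x ∈ NS ι := hκN ▸ ⟨x, hx, rfl⟩
    obtain ⟨y', hy', ey⟩ : κ y ∈ NS ι := hκN ▸ ⟨y, hy, rfl⟩
    rw [hκN, ← ex, ← ey]
    refine h.keep x' y' hx' hy' (fun e => hne (hκS.inj (by rw [← ex, ← ey, e]))) (h.inj ?_)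
    rw [map_mul, map_mul, ex, ey]
    exact (hc.map κ).eq

end Frames

end Cfsg.Lib.FiPrime
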