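import Cfsg.Agent.FiPrime.Lifts
import Cfsg.Agent.FiPrime.Ten
import Cfsg.Agent.M24Rec.Trace

/-!
The even part of the centraliser of a member of the large model mapped into the group, compatibly with the copy of the
smaller group; two such maps at commuting members agree up to conjugation by a member.
-/

set_option autoImplicit false
set_option linter.unusedSectionVars false
set_option linter.style.haveILetI false
set_option maxRecDepth 100000
set_option maxHeartbeats 1000000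

namespace Cfsg.Lib.FiPrime

open Subgroup Cfsg.Lib.ThreeTr Cfsg.Lib.CosetCert
open scoped commutatorElement
open Cfsg.Lib.M23Rec (Fj zz D0 P0 H23 h23 zz_mem zz_sq mem_H P0_le P0_conj finite_fj perp_lists)
open Cfsg.Lib.M24Rec (Fk E0 ll kk CM h24 finite_fk ll_mem ll_sq mem_CM perp_CM ll_CM perp_chi down_ll down_kernel
  down_perp exists_perp exists_lift perp_ext perp_of_down)

attribute [local irreducible] FiFour.rowF FiFour.sevF FiFour.lonF FiFour.blkMask
attribute [local irreducible] FiTwenty.sig0 FiTwenty.sig1 FiTwenty.sig2 FiTwenty.sig3 FiTwenty.sig4 FiTwenty.sig5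
  FiTwenty.sig6 FiTwenty.sig7 FiTwenty.sig8 FiTwenty.sig9 FiTwenty.sig10 FiTwenty.subPts FiTwenty.subIdx
  FiTwenty.subTree1Mask FiTwenty.subTree2Mask

universe u

theorem lift_unique {k k' : CM} (h1 : FiFour.chi k.1 = FiFour.chi k'.1) (h2 : FiFour.down k = FiFour.down k') :
    k = k' :=
  inv_mul_eq_one.1 (down_kernel (by rw [coe_mul, coe_inv, map_mul, map_inv, h1, inv_mul_cancel])
    (by rw [map_mul, map_inv, h2, inv_mul_cancel]))

/-- The even lift of an element of the smaller group. -/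
noncomputable def up : Fj →* CM :=
  MonoidHom.mk' (fun y => (exists_lift y 1).choose) fun a b => by
    refine lift_unique ?_ ?_
    · rw [(exists_lift (a * b) 1).choose_spec.2, coe_mul, map_mul, (exists_lift a 1).choose_spec.2,
        (exists_lift b 1).choose_spec.2, one_mul]
    · rw [(exists_lift (a * b) 1).choose_spec.1, map_mul, (exists_lift a 1).choose_spec.1,
        (exists_lift b 1).choose_spec.1]

theorem down_up (y : Fj) : FiFour.down (up y) = y := (exists_lift y 1).choose_spec.1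

theorem chi_up (y : Fj) : FiFour.chi (up y).1 = 1 := (exists_lift y 1).choose_spec.2

theorem up_down {k : CM} (hk : FiFour.chi k.1 = 1) : up (FiFour.down k) = k :=
  lift_unique (by rw [chi_up, hk]) (down_up _)

theorem chi_conj (r k : Fk) : FiFour.chi (r * k * r⁻¹) = FiFour.chi k := by
  rw [map_mul, map_mul, map_inv, mul_comm (FiFour.chi r), mul_inv_cancel_right]

/-- The lift of the image of a member near the distinguished one. -/
theorem up_member {x : CM} (hx : x.1 ∈ perp E0 ll) : (up (FiFour.down x)).1 = x.1 * ll := by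
  have : up (FiFour.down x) = x * ⟨ll, ll_CM⟩ := by
    refine lift_unique ?_ ?_
    · rw [chi_up, coe_mul, map_mul, perp_chi hx, FiFour.chi_transp ll_mem]; decide
    · rw [down_up, map_mul, down_ll, mul_one]
  rw [this, coe_mul]

/-- The even elements commuting with a member. -/
noncomputable def EC (x : Fk) : Subgroup Fk := centralizer ({x} : Set Fk) ⊓ FiFour.chi.ker

theorem mem_EC {x k : Fk} : k ∈ EC x ↔ Commute k x ∧ FiFour.chi k = 1 := by
  rw [EC, mem_inf, mem_centralizer_singleton_iff, MonoidHom.mem_ker]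
  exact Iff.rfl

variable {G : Type u} [Group G]

/-- A map of the even centraliser of a member agreeing with the given one near the distinguished member. -/
structure View (θ₀ : Fj →* G) (x : CM) (Φ : ↥(EC x.1) →* G) : Prop where
  inj : Function.Injective Φ
  agree : ∀ (k : ↥(EC x.1)) (hk : k.1 ∈ CM), Φ k = θ₀ (FiFour.down ⟨k.1, hk⟩)
  form : ∃ (r : Fk) (g : G), r * x.1 * r⁻¹ = ll ∧ r * ll * r⁻¹ = x.1 ∧
    ∀ (k : ↥(EC x.1)) (hk : r * k.1 * r⁻¹ ∈ CM), Φ k = g * θ₀ (FiFour.down ⟨_, hk⟩) * g⁻¹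

theorem conj_into {x r : Fk} (hr : r * x * r⁻¹ = ll) (k : ↥(EC x)) : r * k.1 * r⁻¹ ∈ CM := by
  refine mem_CM.2 ?_
  have := (mem_EC.1 k.2).1.map (MulAut.conj r)
  simp only [MulAut.conj_apply, hr] at this
  exact this

variable {t : G} {θ₀ : Fj →* G} (hinj : Function.Injective θ₀) (hbase : θ₀ zz = t)
  (h : Frames t (θ₀.comp H23.subtype))
include hinj hbase h

theorem exists_view {x : CM} (hx : x.1 ∈ perp E0 ll) : ∃ Φ : ↥(EC x.1) →* G, View θ₀ x Φ := by
  haveI := finite_fk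
  haveI := finite_fj
  set ι := θ₀.comp H23.subtype
  set z := FiFour.down x with hz
  obtain ⟨f, hf⟩ := isConj_iff.1 (show IsConj zz z from down_perp hx)
  obtain ⟨χ, hχ⟩ := h24.exists_sign
  obtain ⟨r, -, r1, r2⟩ := h24.exists_exchange hχ ll_mem hx
  -- transported lifts commute with both
  have hcomm : ∀ y : H23, Commute (up (f * (y : Fj) * f⁻¹)).1 x.1 := fun y => by
    have hyz : Commute (f * (y : Fj) * f⁻¹) z := by
      have := (mem_H.1 y.2).map (MulAut.conj f)
      simp only [MulAut.conj_apply, hf] at this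
      exact this
    have h1 := (hyz.map up).map CM.subtype
    rw [coe_subtype, hz, up_member hx] at h1
    have h2 := h1.mul_right (mem_CM.1 (up (f * (y : Fj) * f⁻¹)).2)
    rwa [mul_assoc x.1 ll ll, ll_sq, mul_one] at h2
  have hin : ∀ y : H23, r * (up (f * (y : Fj) * f⁻¹)).1 * r⁻¹ ∈ CM := fun y => mem_CM.2 (by
    have := (hcomm y).map (MulAut.conj r)
    simp only [MulAut.conj_apply, r2] at this
    exact this)
  have hout : ∀ y : H23, f⁻¹ * FiFour.down ⟨_, hin y⟩ * f ∈ H23 := fun y => mem_H.2 (by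
    have h1 : Commute (r * (up (f * (y : Fj) * f⁻¹)).1 * r⁻¹) x.1 := by
      have := (mem_CM.1 (up (f * (y : Fj) * f⁻¹)).2).map (MulAut.conj r)
      simp only [MulAut.conj_apply, r1] at this
      exact this
    have h2 := (show Commute (⟨_, hin y⟩ : CM) x from Subtype.ext h1.eq).map FiFour.down
    rw [← hz, ← hf] at h2
    have h3 := h2.map (MulAut.conj f⁻¹)
    simp only [MulAut.conj_apply, inv_inv] at h3
    rwa [show f⁻¹ * (f * zz * f⁻¹) * f = zz by group] at h3)
  let β : H23 →* H23 := MonoidHom.mk' (fun y => ⟨_, hout y⟩) fun a b => Subtype.ext (by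
    show _ = f⁻¹ * FiFour.down ⟨_, hin a⟩ * f * (f⁻¹ * FiFour.down ⟨_, hin b⟩ * f)
    rw [show f⁻¹ * FiFour.down ⟨_, hin a⟩ * f * (f⁻¹ * FiFour.down ⟨_, hin b⟩ * f) =
      f⁻¹ * (FiFour.down ⟨_, hin a⟩ * FiFour.down ⟨_, hin b⟩) * f by group, ← map_mul]
    refine congrArg (fun k : CM => f⁻¹ * FiFour.down k * f) (Subtype.ext ?_)
    show r * (up (f * ((a * b : H23) : Fj) * f⁻¹)).1 * r⁻¹ = _
    rw [coe_mul, show f * ((a : Fj) * b) * f⁻¹ = (f * a * f⁻¹) * (f * b * f⁻¹) by group, map_mul, coe_mul, coe_mul]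
    group)
  have hβi : Function.Injective β := fun a b e => by
    have e1 : FiFour.down ⟨_, hin a⟩ = FiFour.down ⟨_, hin b⟩ :=
      mul_left_cancel (mul_right_cancel (congrArg Subtype.val e :))
    have e2 := lift_unique (k := ⟨_, hin a⟩) (k' := ⟨_, hin b⟩) (by rw [chi_conj, chi_conj, chi_up, chi_up]) e1
    have e3 : (up (f * (a : Fj) * f⁻¹)) = up (f * (b : Fj) * f⁻¹) :=
      Subtype.ext (mul_left_cancel (mul_right_cancel (congrArg Subtype.val e2 :)))
    have e4 := congrArg FiFour.down e3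
    rw [down_up, down_up] at e4
    exact Subtype.ext (mul_left_cancel (mul_right_cancel e4))
  let α : MulAut H23 := MulEquiv.ofBijective β (Finite.injective_iff_bijective.1 hβi)
  -- the map exchanges the classes
  obtain ⟨p, hp, hpout⟩ : ∃ p : H23, (p : Fj) ∈ P0 ∧ (α p : Fj) ∉ P0 := by
    have hp := M23Rec.letter_P0
    refine ⟨⟨_, P0_le hp⟩, hp, fun hP => ?_⟩
    set w := f * FiTwenty.imZ 0 * f⁻¹ with hw
    have hwD : w ∈ D0 := ThreeTr.conj_mem h23.cls f hp.1
    have hwz : w ≠ z := fun e => hp.2.1 (by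
      rw [hw, ← hf] at e
      exact mul_left_cancel (mul_right_cancel e))
    obtain ⟨e, he, hed⟩ := exists_perp hwD
    have hupw : (up w).1 = e.1 * ll := by rw [← hed, up_member he]
    have hex : Commute e.1 x.1 := by
      have h1 := hcomm ⟨_, P0_le hp⟩
      rw [show f * ((⟨_, P0_le hp⟩ : H23) : Fj) * f⁻¹ = w from rfl, hupw] at h1
      have h2 := h1.mul_left hx.2.2
      rwa [mul_assoc e.1 ll ll, ll_sq, mul_one] at h2
    set e' := r * e.1 * r⁻¹ with he'
    have he'll : Commute e' ll := by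
      have := hex.map (MulAut.conj r)
      simp only [MulAut.conj_apply, r2] at this
      exact this
    have he'p : e' ∈ perp E0 ll := ⟨ThreeTr.conj_mem h24.cls r he.1, fun k => hwz (by
      rw [he'] at k
      have : e.1 = x.1 := by
        rw [← r2] at k
        exact mul_left_cancel (mul_right_cancel k)
      rw [← hed, show e = x from Subtype.ext this, hz]), he'll.symm⟩
    have hval : (α ⟨_, P0_le hp⟩ : Fj) = f⁻¹ * FiFour.down ⟨e', perp_CM he'p⟩ * f * zz := by
      show f⁻¹ * FiFour.down ⟨_, hin ⟨_, P0_le hp⟩⟩ * f = _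
      rw [show (⟨_, hin ⟨_, P0_le hp⟩⟩ : CM) = (⟨e', perp_CM he'p⟩ : CM) * x from Subtype.ext (by
        show r * (up w).1 * r⁻¹ = e' * x.1
        rw [hupw, he', ← r1]; group), map_mul, ← hz, ← hf]
      group
    have hq : f⁻¹ * FiFour.down ⟨e', perp_CM he'p⟩ * f ∈ P0 := by
      refine ⟨by simpa using ThreeTr.conj_mem h23.cls f⁻¹ (down_perp (v := ⟨e', perp_CM he'p⟩) he'p), fun k => ?_, ?_⟩
      · have k1 : FiFour.down ⟨e', perp_CM he'p⟩ = z := by
          rw [← hf, ← k]; group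
        have k2 := congrArg Subtype.val (perp_ext (v := ⟨e', perp_CM he'p⟩) (w := x) he'p hx (k1.trans hz))
        have k3 : e.1 = ll := by
          have : r * e.1 * r⁻¹ = r * ll * r⁻¹ := by rw [r1]; exact k2
          exact mul_left_cancel (mul_right_cancel this)
        exact he.2.1 k3
      · have h1 : Commute e' x.1 := by
          have := (mem_CM.1 e.2).map (MulAut.conj r)
          simp only [MulAut.conj_apply, r1] at this
          exact this
        have h2 := ((show Commute (⟨e', perp_CM he'p⟩ : CM) x from Subtype.ext h1.eq).map FiFour.down).map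
          (MulAut.conj f⁻¹)
        simp only [MulAut.conj_apply, inv_inv, ← hz, ← hf] at h2
        rw [show f⁻¹ * (f * zz * f⁻¹) * f = zz by group] at h2
        exact h2.symm
    rw [hval, hq.2.2.symm.eq] at hP
    exact zz_mul_not hq hP
  obtain ⟨g, hg, hgr⟩ := h.outer
  obtain ⟨c, hc⟩ := h.outer_form hg hgr
  obtain ⟨d, hd⟩ : ∃ d, ∀ y, α y = d * flip23 y * d⁻¹ := by
    rcases aut_cases α with ⟨d, hd⟩ | hd
    · exact absurd (by rw [hd, coe_mul, coe_mul, coe_inv]; exact P0_conj d.2 hp) hpout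
    · exact hd
  set g' := ι d * (ι c)⁻¹ * g
  have hg' : ∀ y : H23, g' * ι y * g'⁻¹ = ι (α y) := fun y => by
    rw [show g' * ι y * g'⁻¹ = ι d * (ι c)⁻¹ * (g * ι y * g⁻¹) * ι c * (ι d)⁻¹ by simp only [g']; group, hc, hd]
    simp only [map_mul, map_inv]
    group
  set Γ := θ₀ f * g' * (θ₀ f)⁻¹
  let Φ : ↥(EC x.1) →* G := MonoidHom.mk' (fun k => Γ⁻¹ * θ₀ (FiFour.down ⟨_, conj_into r2 k⟩) * Γ) fun a b => by
    have e : (⟨_, conj_into r2 (a * b)⟩ : CM) = ⟨_, conj_into r2 a⟩ * ⟨_, conj_into r2 b⟩ := Subtype.ext (by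
      show r * (a.1 * b.1) * r⁻¹ = r * a.1 * r⁻¹ * (r * b.1 * r⁻¹); group)
    rw [e, map_mul, map_mul]
    group
  refine ⟨Φ, fun a b e => ?_, fun k hk => ?_, ⟨r, Γ⁻¹, r2, r1, fun k hk => by
    show Γ⁻¹ * _ * Γ = _; rw [inv_inv]⟩⟩
  · have e1 := hinj (mul_left_cancel (mul_right_cancel (e :)))
    have e2 := lift_unique (k := ⟨_, conj_into r2 a⟩) (k' := ⟨_, conj_into r2 b⟩)
      (by rw [chi_conj, chi_conj, (mem_EC.1 a.2).2, (mem_EC.1 b.2).2]) e1
    exact Subtype.ext (mul_left_cancel (mul_right_cancel (congrArg Subtype.val e2 :)))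
  · set y := FiFour.down ⟨k.1, hk⟩ with hy
    have hyz : f⁻¹ * y * f ∈ H23 := mem_H.2 (by
      have h1 := ((show Commute (⟨k.1, hk⟩ : CM) x from Subtype.ext (mem_EC.1 k.2).1.eq).map FiFour.down).map
        (MulAut.conj f⁻¹)
      simp only [MulAut.conj_apply, inv_inv, ← hz, ← hf] at h1
      rwa [show f⁻¹ * (f * zz * f⁻¹) * f = zz by group] at h1)
    have hk' : (⟨k.1, hk⟩ : CM) = up (f * ((⟨_, hyz⟩ : H23) : Fj) * f⁻¹) := by
      rw [show f * (f⁻¹ * y * f) * f⁻¹ = y by group, hy, up_down (k := ⟨k.1, hk⟩) (mem_EC.1 k.2).2]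
    have e := hg' ⟨_, hyz⟩
    show Γ⁻¹ * θ₀ (FiFour.down ⟨_, conj_into r2 k⟩) * Γ = θ₀ y
    have e1 : (⟨_, conj_into r2 k⟩ : CM) = ⟨_, hin ⟨_, hyz⟩⟩ :=
      Subtype.ext (congrArg (fun u : CM => r * u.1 * r⁻¹) hk')
    have e2 : θ₀ (FiFour.down ⟨_, conj_into r2 k⟩) = θ₀ f * ι (α ⟨_, hyz⟩) * (θ₀ f)⁻¹ := by
      rw [e1]
      show _ = θ₀ f * θ₀ (f⁻¹ * FiFour.down ⟨_, hin ⟨_, hyz⟩⟩ * f) * (θ₀ f)⁻¹
      simp only [map_mul, map_inv]
      group
    have e3 : ι ⟨_, hyz⟩ = (θ₀ f)⁻¹ * θ₀ y * θ₀ f := by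
      show θ₀ (f⁻¹ * y * f) = _
      simp only [map_mul, map_inv]
    rw [e2, ← e, e3]
    simp only [Γ]
    group

/-- Two maps at commuting members, evaluated at an even element commuting with both. -/
theorem view_overlap {x x' : CM} (hx : x.1 ∈ perp E0 ll) (hx' : x'.1 ∈ perp E0 ll) (hne : x ≠ x')
    (hc : Commute x x') {Φ : ↥(EC x.1) →* G} (hΦ : View θ₀ x Φ) {Φ' : ↥(EC x'.1) →* G} (hΦ' : View θ₀ x' Φ')
    (k : Fk) (hk : k ∈ EC x.1) (hk' : k ∈ EC x'.1) :
    Φ' ⟨k, hk'⟩ = Φ ⟨k, hk⟩ ∨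
      ∃ hm : x.1 * ll * k * (x.1 * ll)⁻¹ ∈ EC x.1, Φ' ⟨k, hk'⟩ = Φ ⟨_, hm⟩ := by
  haveI := finite_fk
  haveI := finite_fj
  haveI := FiPres.finite_fi
  set ι := θ₀.comp H23.subtype
  obtain ⟨r, g, r2, r1, hform⟩ := hΦ.form
  have hcc : Commute x.1 x'.1 := congrArg Subtype.val hc.eq
  set v := r * x'.1 * r⁻¹ with hv
  have hvl : Commute v ll := by
    have := hcc.symm.map (MulAut.conj r)
    simp only [MulAut.conj_apply, r2] at this
    exact this
  have hvp : v ∈ perp E0 ll := ⟨ThreeTr.conj_mem h24.cls r hx'.1, fun e => hne (Subtype.ext (by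
    rw [hv, ← r2] at e; exact (mul_left_cancel (mul_right_cancel e)).symm)), hvl.symm⟩
  set zv := FiFour.down ⟨v, perp_CM hvp⟩ with hzv
  obtain ⟨f, hf⟩ := isConj_iff.1 (show IsConj zz zv from down_perp (v := ⟨v, perp_CM hvp⟩) hvp)
  have hcom : ∀ y : H23, Commute (up (f * (y : Fj) * f⁻¹)).1 v := fun y => by
    have hyz : Commute (f * (y : Fj) * f⁻¹) zv := by
      have := (mem_H.1 y.2).map (MulAut.conj f)
      simp only [MulAut.conj_apply, hf] at this
      exact this
    have h1 := (hyz.map up).map CM.subtype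
    rw [coe_subtype, hzv, up_member (x := ⟨v, perp_CM hvp⟩) hvp] at h1
    have h2 := h1.mul_right (mem_CM.1 (up (f * (y : Fj) * f⁻¹)).2)
    rwa [mul_assoc v ll ll, ll_sq, mul_one] at h2
  have hj : ∀ y : H23, r⁻¹ * (up (f * (y : Fj) * f⁻¹)).1 * r ∈ EC x.1 ∧
      r⁻¹ * (up (f * (y : Fj) * f⁻¹)).1 * r ∈ EC x'.1 := fun y => by
    have hch : FiFour.chi (r⁻¹ * (up (f * (y : Fj) * f⁻¹)).1 * r) = 1 := by
      have := chi_conj r⁻¹ (up (f * (y : Fj) * f⁻¹)).1
      rw [inv_inv] at this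
      rw [this, chi_up]
    constructor
    · refine mem_EC.2 ⟨?_, hch⟩
      have := (mem_CM.1 (up (f * (y : Fj) * f⁻¹)).2).map (MulAut.conj r⁻¹)
      simp only [MulAut.conj_apply, inv_inv] at this
      rwa [show r⁻¹ * ll * r = x.1 by rw [← r2]; group] at this
    · refine mem_EC.2 ⟨?_, hch⟩
      have := (hcom y).map (MulAut.conj r⁻¹)
      simp only [MulAut.conj_apply, inv_inv] at this
      rwa [show r⁻¹ * v * r = x'.1 by rw [hv]; group] at this
  let j : H23 →* ↥(EC x.1) := MonoidHom.mk' (fun y => ⟨_, (hj y).1⟩) fun a b => Subtype.ext (by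
    show r⁻¹ * (up (f * ((a * b : H23) : Fj) * f⁻¹)).1 * r = r⁻¹ * _ * r * (r⁻¹ * _ * r)
    rw [coe_mul, show f * ((a : Fj) * b) * f⁻¹ = (f * a * f⁻¹) * (f * b * f⁻¹) by group, map_mul, coe_mul]
    group)
  let j' : H23 →* ↥(EC x'.1) := MonoidHom.mk' (fun y => ⟨_, (hj y).2⟩) fun a b => Subtype.ext (by
    show r⁻¹ * (up (f * ((a * b : H23) : Fj) * f⁻¹)).1 * r = r⁻¹ * _ * r * (r⁻¹ * _ * r)
    rw [coe_mul, show f * ((a : Fj) * b) * f⁻¹ = (f * a * f⁻¹) * (f * b * f⁻¹) by group, map_mul, coe_mul]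
    group)
  set g1 := g * θ₀ f with hg1
  have hΦj : ∀ y, Φ (j y) = g1 * ι y * g1⁻¹ := fun y => by
    have hm : r * (j y).1 * r⁻¹ = (up (f * (y : Fj) * f⁻¹)).1 := by
      show r * (r⁻¹ * _ * r) * r⁻¹ = _; group
    rw [hform (j y) (hm ▸ (up (f * (y : Fj) * f⁻¹)).2), show (⟨_, hm ▸ (up (f * (y : Fj) * f⁻¹)).2⟩ : CM) =
      up (f * (y : Fj) * f⁻¹) from Subtype.ext hm, down_up, hg1, map_mul, map_mul, map_inv]
    show _ = g * θ₀ f * θ₀ (y : Fj) * (g * θ₀ f)⁻¹
    group
  let ψ : H23 →* G := (MulAut.conj g1⁻¹).toMonoidHom.comp (Φ'.comp j')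
  have hψ : ∀ y, ψ y = g1⁻¹ * Φ' (j' y) * g1 := fun y => by
    show g1⁻¹ * Φ' (j' y) * g1⁻¹⁻¹ = _; rw [inv_inv]
  -- where the member commutes with the distinguished one the two agree
  have hsame : ∀ y, (j y).1 ∈ CM → ψ y = ι y := fun y hy => by
    have e : Φ' (j' y) = Φ (j y) := (hΦ'.agree (j' y) hy).trans (hΦ.agree (j y) hy).symm
    rw [hψ, e, hΦj]
    group
  have hψz : ψ FiTwenty.zH = t := by
    rw [hsame _ ?_]
    · exact hbase
    show r⁻¹ * (up (f * zz * f⁻¹)).1 * r ∈ CM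
    rw [hf, hzv, up_member (x := ⟨v, perp_CM hvp⟩) hvp,
      show r⁻¹ * (v * ll) * r = x'.1 * x.1 by rw [hv, ← r2]; group]
    exact mul_mem x'.2 x.2
  have hψc : ∀ y, Commute (ψ y) t := fun y => by
    rw [← hψz]
    exact (show Commute y FiTwenty.zH from Subtype.ext (mem_H.1 y.2).eq).map ψ
  have hψr : ∀ y, ψ y ∈ ι.range := by
    have hle : _root_.commutator H23 ≤ ι.range.comap ψ := by
      rw [_root_.commutator_def, commutator_le]
      intro a _ b _
      rw [mem_comap, map_commutatorElement]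
      have hn : ∀ {g : G}, Commute g t → ∀ {m : G}, m ∈ ι.range → g * m * g⁻¹ ∈ ι.range := by
        rintro g hg _ ⟨m, rfl⟩
        exact h.normal hg m
      by_cases ha : ψ a ∈ ι.range
      · rw [commutatorElement_def, mul_assoc, mul_assoc, ← mul_assoc (ψ b)]
        exact mul_mem ha (hn (hψc b) (inv_mem ha))
      by_cases hb : ψ b ∈ ι.range
      · rw [commutatorElement_def]
        exact mul_mem (hn (hψc a) hb) (inv_mem hb)
      · rw [commutatorElement_def, mul_assoc _ (ψ a)⁻¹]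
        exact mul_mem (h.two _ _ (hψc a) (hψc b) ha hb)
          (h.two _ _ (hψc a).inv_left (hψc b).inv_left (fun e => ha (inv_mem_iff.1 e)) fun e => hb (inv_mem_iff.1 e))
    exact fun y => hle (FiSixfold.double_perfect.symm ▸ mem_top y)
  choose γf hγf using hψr
  let γ0 : H23 →* H23 := MonoidHom.mk' γf fun a b => h.inj (by rw [map_mul, hγf, hγf, hγf, map_mul])
  have hγi : Function.Injective γ0 := fun a b e => by
    have e1 : ψ a = ψ b := by rw [← hγf, ← hγf]; exact congrArg ι e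
    rw [hψ, hψ] at e1
    have e2 := hΦ'.inj (mul_left_cancel (mul_right_cancel e1))
    have e3 : (up (f * (a : Fj) * f⁻¹)) = up (f * (b : Fj) * f⁻¹) :=
      Subtype.ext (mul_left_cancel (mul_right_cancel (congrArg Subtype.val e2 :)))
    have e4 := congrArg FiFour.down e3
    rw [down_up, down_up] at e4
    exact Subtype.ext (mul_left_cancel (mul_right_cancel e4))
  let γ : MulAut H23 := MulEquiv.ofBijective γ0 (Finite.injective_iff_bijective.1 hγi)
  -- the lift standing for the first member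
  set w := f⁻¹ * FiFour.down x * f with hw
  have hxv : Commute x.1 v := by
    have := (mem_CM.1 x'.2).map (MulAut.conj r)
    simp only [MulAut.conj_apply, r1] at this
    exact this.symm
  have hxv' : x.1 ≠ v := fun e => hx'.2.1 (by
    rw [hv, ← r1] at e; exact (mul_left_cancel (mul_right_cancel e)).symm)
  have hwP : w ∈ P0 := by
    refine ⟨by rw [hw]; simpa using ThreeTr.conj_mem h23.cls f⁻¹ (down_perp hx), fun k => ?_, ?_⟩
    · have k1 : FiFour.down x = zv := by rw [← hf, ← k, hw]; group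
      exact hxv' (congrArg Subtype.val (perp_ext (v := x) (w := ⟨v, perp_CM hvp⟩) hx hvp k1))
    · have h2 := ((show Commute x (⟨v, perp_CM hvp⟩ : CM) from Subtype.ext hxv.eq).map FiFour.down).map
        (MulAut.conj f⁻¹)
      simp only [MulAut.conj_apply, inv_inv, ← hzv, ← hf] at h2
      rw [show f⁻¹ * (f * zz * f⁻¹) * f = zz by group] at h2
      exact h2.symm
  set p : H23 := ⟨w, P0_le hwP⟩
  have hjp : (j p).1 = x.1 * ll := by
    show r⁻¹ * (up (f * w * f⁻¹)).1 * r = _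
    rw [show f * w * f⁻¹ = FiFour.down x by rw [hw]; group, up_member hx]
    have ra : r⁻¹ * x.1 * r = ll := by rw [← r1]; group
    have rb : r⁻¹ * ll * r = x.1 := by rw [← r2]; group
    rw [show r⁻¹ * (x.1 * ll) * r = r⁻¹ * x.1 * r * (r⁻¹ * ll * r) by group, ra, rb]
    exact hx.2.2.eq
  have hfix : ∀ y, Commute y p → γ y = y := fun y hy => h.inj (by
    refine (hγf y).trans (hsame y (mem_CM.2 ?_))
    have h1 : Commute (j y).1 (x.1 * ll) := by rw [← hjp]; exact (hy.map j).map (EC x.1).subtype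
    have h2 : Commute (j y).1 x.1 := (mem_EC.1 (j y).2).1
    have h3 := h2.mul_right h1
    rwa [← mul_assoc, sq_eq_one h24.cls.1 hx.1, one_mul] at h3)
  have hγp : γ p = p := hfix p (Commute.refl p)
  rcases aut_cases γ with ⟨c, hc'⟩ | ⟨c, hc'⟩
  · have hcp : Commute c p := by
      have e := hc' p
      rw [hγp] at e
      exact (mul_inv_eq_iff_eq_mul.1 e.symm)
    have h2M : M22 FiPres.transp := M22.mk' FiTypes.two_three_group FiTypes.two_primitive FiTypes.two_type
    have hall : ∀ e ∈ perp FiPres.transp (FiTwenty.down p), Commute e (FiTwenty.down c) := by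
      intro e he
      obtain ⟨z, hz⟩ := FiPres.exists_point he.1
      haveI := FiPres.transitive
      obtain ⟨k, rfl⟩ := MulAction.exists_smul_eq Cfsg.Spor.Fi22 FiPres.p0 z
      obtain ⟨k, rfl⟩ := FiTwenty.down_surjective k
      set e0 : H23 := k * ⟨_, P0_le M23Rec.letter_P0⟩ * k⁻¹ with he0
      have hd : FiTwenty.down e0 = e := by
        rw [← hz, FiPres.tr_orbit, he0, map_mul, map_mul, map_inv, M23Rec.down_letter]
      have he0P : (e0 : Fj) ∈ P0 := by rw [he0, coe_mul, coe_mul, coe_inv]; exact P0_conj k.2 M23Rec.letter_P0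
      have hep : Commute e0 p := commute_of_down he0P hwP (by rw [hd]; exact he.2.2.symm)
      have e1 := hc' e0
      rw [hfix e0 hep] at e1
      rw [← hd]
      exact (show Commute e0 c from (mul_inv_eq_iff_eq_mul.1 e1.symm).symm).map FiTwenty.down
    have hψk : ∀ y, Φ' (j' y) = Φ (j (c * y * c⁻¹)) := fun y => by
      have := hγf y
      rw [show γf y = γ y from rfl, hc', hψ] at this
      rw [hΦj, this]; group
    -- the element is a transported one
    have hmem : r * k * r⁻¹ ∈ CM := conj_into r2 ⟨k, hk⟩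
    set y0 := f⁻¹ * FiFour.down ⟨_, hmem⟩ * f with hy0
    have hy0H : y0 ∈ H23 := mem_H.2 (by
      have h1 : Commute (r * k * r⁻¹) v := by
        have := (mem_EC.1 hk').1.map (MulAut.conj r)
        simpa only [MulAut.conj_apply] using this
      have h2 := ((show Commute (⟨_, hmem⟩ : CM) (⟨v, perp_CM hvp⟩ : CM) from Subtype.ext h1.eq).map FiFour.down).map
        (MulAut.conj f⁻¹)
      simp only [MulAut.conj_apply, inv_inv, ← hzv, ← hf] at h2
      rwa [show f⁻¹ * (f * zz * f⁻¹) * f = zz by group] at h2)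
    have hjy : (j ⟨y0, hy0H⟩).1 = k := by
      show r⁻¹ * (up (f * y0 * f⁻¹)).1 * r = k
      rw [show f * y0 * f⁻¹ = FiFour.down ⟨_, hmem⟩ by rw [hy0]; group,
        up_down (by show FiFour.chi (r * k * r⁻¹) = 1; rw [chi_conj, (mem_EC.1 hk).2])]
      show r⁻¹ * (r * k * r⁻¹) * r = k
      group
    have e1 : j ⟨y0, hy0H⟩ = ⟨k, hk⟩ := Subtype.ext hjy
    have e2 : j' ⟨y0, hy0H⟩ = ⟨k, hk'⟩ := Subtype.ext hjy
    rw [← e2, hψk]
    rcases h2M.eq_one_or_self (down_P0 hwP) (hcp.map FiTwenty.down).symm hall with e | e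
    · left
      have hcz : ∀ y, Commute c y := fun y => (mem_center_iff.1 (FiTwenty.center_eq.ge (MonoidHom.mem_ker.2 e)) y).symm
      rw [(hcz _).eq, mul_inv_cancel_right, e1]
    · right
      have hcz : ∀ y, Commute (p⁻¹ * c) y := fun y => (mem_center_iff.1 (FiTwenty.center_eq.ge (MonoidHom.mem_ker.2
        (by rw [map_mul, map_inv, e, inv_mul_cancel]))) y).symm
      have e3 : j c * j ⟨y0, hy0H⟩ * (j c)⁻¹ = j p * j ⟨y0, hy0H⟩ * (j p)⁻¹ := by
        rw [← map_inv, ← map_inv, ← map_mul, ← map_mul, ← map_mul, ← map_mul]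
        refine congrArg j ?_
        have := (hcz ⟨y0, hy0H⟩).eq
        calc c * ⟨y0, hy0H⟩ * c⁻¹ = p * (p⁻¹ * c * ⟨y0, hy0H⟩) * c⁻¹ := by group
          _ = p * (⟨y0, hy0H⟩ * (p⁻¹ * c)) * c⁻¹ := by rw [this]
          _ = _ := by group
      have e4 : ((j p * j ⟨y0, hy0H⟩ * (j p)⁻¹ : ↥(EC x.1)) : Fk) = x.1 * ll * k * (x.1 * ll)⁻¹ := by
        rw [coe_mul, coe_mul, coe_inv, hjp, hjy]
      refine ⟨e4 ▸ (j p * j ⟨y0, hy0H⟩ * (j p)⁻¹).2, congrArg Φ ?_⟩
      rw [map_mul, map_mul, map_inv, e3]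
      exact Subtype.ext e4
  · exfalso
    refine zz_mul_not (x := w) hwP ?_
    have e := hc' p
    rw [hγp] at e
    have e' : zz * w = (c : Fj) * (zz * (flip23 p : Fj)) * (c : Fj)⁻¹ := by
      conv_lhs => rw [show w = ((p : H23) : Fj) from rfl, e]
      rw [coe_mul, coe_mul, coe_inv, ← mul_assoc, ← mul_assoc, ← mul_assoc, (mem_H.1 c.2).eq]
    rw [e']
    exact P0_conj c.2 (flip23_spec hwP)

end Cfsg.Lib.FiPrime
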